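import Cfsg.Agent.H4.Cls2

/-! Unipotent classes of `SL₂`, class numbers, products of classes. -/

set_option autoImplicit false

namespace H4
open MulAction Matrix OnePoint
open scoped MatrixGroups

variable {F : Type*} [Field F]

/-- element of `SL₂` from entries -/
def slm (a b c d : F) (h : a * d - b * c = 1) : SL(2, F) :=
  ⟨!![a, b; c, d], by rw [Matrix.det_fin_two_of, h]⟩

@[simp] lemma slm00 (a b c d : F) (h) : (slm a b c d h).1 0 0 = a := rfl
@[simp] lemma slm01 (a b c d : F) (h) : (slm a b c d h).1 0 1 = b := rfl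
@[simp] lemma slm10 (a b c d : F) (h) : (slm a b c d h).1 1 0 = c := rfl
@[simp] lemma slm11 (a b c d : F) (h) : (slm a b c d h).1 1 1 = d := rfl

/-- upper unitriangular element -/
def ub (b : F) : SL(2, F) := slm 1 b 0 1 (by simp)

lemma ub_coe (b : F) : (ub b : Matrix (Fin 2) (Fin 2) F) = !![1, b; 0, 1] := rfl

lemma sl2_ext {g h : SL(2, F)} (h0 : g.1 0 0 = h.1 0 0) (h1 : g.1 0 1 = h.1 0 1)
    (h2 : g.1 1 0 = h.1 1 0) (h3 : g.1 1 1 = h.1 1 1) : g = h := by
  apply Subtype.ext; ext i j; fin_cases i <;> fin_cases j <;> assumption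

lemma sl2_det (g : SL(2, F)) : g.1 0 0 * g.1 1 1 - g.1 0 1 * g.1 1 0 = 1 := by
  have := g.2; rwa [Matrix.det_fin_two] at this

lemma sl2_mul_apply (g h : SL(2, F)) (i j : Fin 2) :
    (g * h).1 i j = g.1 i 0 * h.1 0 j + g.1 i 1 * h.1 1 j := by
  change (g.1 * h.1) i j = _
  rw [Matrix.mul_apply, Fin.sum_univ_two]

lemma eq_ub {g : SL(2, F)} (h0 : g.1 0 0 = 1) (h1 : g.1 1 1 = 1) (h2 : g.1 1 0 = 0) :
    g = ub (g.1 0 1) := sl2_ext h0 rfl h2 h1

lemma ub_ne_one {b : F} (hb : b ≠ 0) : ub b ≠ 1 := fun h => hb (by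
  simpa [ub_coe] using congrArg (fun g : SL(2, F) => g.1 0 1) h)

lemma trace_ub (b : F) : (ub b : Matrix (Fin 2) (Fin 2) F).trace = 2 := by
  simp [ub_coe, Matrix.trace_fin_two]; norm_num

lemma exists_conj_ub {g : SL(2, F)} (ht : (g : Matrix (Fin 2) (Fin 2) F).trace = 2) (h1 : g ≠ 1) :
    ∃ b ≠ 0, IsConj (ub b) g := by
  rw [Matrix.trace_fin_two] at ht
  have hd := sl2_det g
  by_cases hc : g.1 1 0 = 0
  · have ha : g.1 0 0 = 1 := by
      have : (g.1 0 0 - 1) ^ 2 = 0 := by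
        rw [hc] at hd; linear_combination g.1 0 0 * ht - hd
      exact sub_eq_zero.1 (pow_eq_zero_iff two_ne_zero |>.1 this)
    have hd' : g.1 1 1 = 1 := by rw [ha] at ht; linear_combination ht
    refine ⟨g.1 0 1, fun hb => h1 (sl2_ext ha hb hc hd'), ?_⟩
    rw [← eq_ub ha hd' hc]
  · refine ⟨-(g.1 1 0)⁻¹, by simpa using hc, isConj_iff.2
      ⟨slm (g.1 0 0 - 1) (-(g.1 1 0)⁻¹) (g.1 1 0) 0 (by simp [hc]), ?_⟩⟩
    rw [mul_inv_eq_iff_eq_mul]
    have e : g.1 1 1 = 2 - g.1 0 0 := by linear_combination ht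
    apply sl2_ext <;> simp only [sl2_mul_apply] <;> simp [ub] <;> field_simp <;> grind

lemma isConj_ub_iff {b c : F} (hb : b ≠ 0) (hc : c ≠ 0) :
    IsConj (ub b) (ub c) ↔ IsSquare (b * c) := by
  constructor
  · intro h
    obtain ⟨m, hm⟩ := isConj_iff.1 h
    rw [mul_inv_eq_iff_eq_mul] at hm
    have h0 := congrArg (fun g : SL(2, F) => g.1 0 0) hm
    have h1 := congrArg (fun g : SL(2, F) => g.1 0 1) hm
    have hd := sl2_det m
    simp only [sl2_mul_apply] at h0 h1
    simp [ub, hc] at h0 h1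
    exact ⟨m.1 0 0 * b, by grind⟩
  · rintro ⟨r, hr⟩
    have hr0 : r ≠ 0 := by rintro rfl; simp [hb, hc] at hr
    refine isConj_iff.2 ⟨slm (r / b) 0 0 (b / r) (by field_simp; simp), ?_⟩
    rw [mul_inv_eq_iff_eq_mul]
    apply sl2_ext <;> simp only [sl2_mul_apply] <;> simp [ub]
    field_simp; grind

lemma trace_eq_two_of_pow {p : ℕ} [Fact p.Prime] [CharP F p] {g : SL(2, F)} (h : g ^ p = 1) :
    (g : Matrix (Fin 2) (Fin 2) F).trace = 2 := by
  have h1 : IsNilpotent ((g : Matrix (Fin 2) (Fin 2) F) - 1) := ⟨p, by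
    rw [sub_pow_char_of_commute _ (Commute.one_right _), one_pow, sub_eq_zero]
    exact congrArg Subtype.val h⟩
  have h2 := (Matrix.isNilpotent_trace_of_isNilpotent h1).eq_zero
  rw [Matrix.trace_sub, Matrix.trace_one] at h2
  simpa [sub_eq_zero] using h2

lemma ub_pow (b : F) (n : ℕ) : ub b ^ n = ub (n * b) := by
  induction n with
  | zero => rw [pow_zero]; apply sl2_ext <;> simp [ub]
  | succ n ih => rw [pow_succ, ih]; apply sl2_ext <;> simp only [sl2_mul_apply] <;> simp [ub]; ring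

lemma orderOf_ub {p : ℕ} [Fact p.Prime] [CharP F p] {b : F} (hb : b ≠ 0) : orderOf (ub b) = p :=
  orderOf_eq_prime (by rw [ub_pow]; apply sl2_ext <;> simp [ub]) (ub_ne_one hb)

lemma orderOf_eq_char_iff {p : ℕ} [Fact p.Prime] [CharP F p] {g : SL(2, F)} :
    orderOf g = p ↔ ∃ b ≠ 0, IsConj (ub b) g := by
  constructor
  · intro h
    refine exists_conj_ub (trace_eq_two_of_pow (p := p) (orderOf_dvd_iff_pow_eq_one.1 h.dvd)) ?_
    rintro rfl
    exact (Fact.out : p.Prime).ne_one (by rw [← h, orderOf_one])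
  · rintro ⟨b, hb, h⟩
    obtain ⟨m, rfl⟩ := isConj_iff.1 h
    rw [← orderOf_ub (p := p) hb]
    exact (MulAut.conj m).orderOf_eq _

lemma card_carrier_mk {G : Type*} [Group G] (g : G) :
    Nat.card (ConjClasses.mk g).carrier = (Subgroup.centralizer {g}).index := by
  rw [← ConjAct.orbit_eq_carrier_conjClasses, Nat.card_coe_set_eq, ← index_stabilizer,
    Subgroup.centralizer_eq_comap_stabilizer]
  exact (Subgroup.index_comap_of_surjective _ ConjAct.toConjAct.surjective).symm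

/-- the centralizer of `ub b` -/
noncomputable def cenUbEquiv {b : F} (hb : b ≠ 0) :
    Subgroup.centralizer {ub b} ≃ {x : F // x ^ 2 = 1} × F where
  toFun g := (⟨g.1.1 0 0, by
      have hm := Subgroup.mem_centralizer_singleton_iff.1 g.2
      have h0 := congrArg (fun g : SL(2, F) => g.1 0 0) hm
      have h1 := congrArg (fun g : SL(2, F) => g.1 0 1) hm
      have hd := sl2_det g.1
      simp only [sl2_mul_apply] at h0 h1
      simp [ub, hb] at h0 h1
      grind⟩, g.1.1 0 1)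
  invFun x := ⟨slm x.1.1 x.2 0 x.1.1 (by simp [← sq, x.1.2]), by
      rw [Subgroup.mem_centralizer_singleton_iff]
      apply sl2_ext <;> simp only [sl2_mul_apply] <;> simp [ub]; ring⟩
  left_inv g := by
      have hm := Subgroup.mem_centralizer_singleton_iff.1 g.2
      have h0 := congrArg (fun g : SL(2, F) => g.1 0 0) hm
      have h1 := congrArg (fun g : SL(2, F) => g.1 0 1) hm
      simp only [sl2_mul_apply] at h0 h1
      simp [ub, hb] at h0 h1
      apply Subtype.ext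
      apply sl2_ext <;> simp [h0]
      grind
  right_inv x := by simp

lemma card_sq_eq_one [Finite F] :
    Nat.card {x : F // x ^ 2 = 1} = Nat.gcd 2 (Nat.card F - 1) := by
  rcases Nat.even_or_odd (Nat.card F) with h | h
  · rw [gcd_two_of_even h Nat.card_pos.ne', Nat.card_eq_one_iff_unique]
    have h2 : (2 : F) = 0 := by
      by_contra h2; exact Nat.not_odd_iff_even.2 h (two_ne_zero_iff_odd.1 h2)
    have : ∀ x : {x : F // x ^ 2 = 1}, x.1 = 1 := fun x => by have := x.2; grind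
    exact ⟨⟨fun x y => Subtype.ext ((this x).trans (this y).symm)⟩, ⟨⟨1, one_pow _⟩⟩⟩
  · rw [gcd_two_of_odd h, Nat.card_eq_two_iff' ⟨1, one_pow _⟩]
    have h2 := two_ne_zero_iff_odd.2 h
    refine ⟨⟨-1, by ring⟩, fun e => h2 (by have := congrArg Subtype.val e; grind), fun y hy => ?_⟩
    exact Subtype.ext ((sq_eq_one_iff.1 y.2).resolve_left fun e => hy (Subtype.ext e))

lemma card_class_ub [Finite F] {b : F} (hb : b ≠ 0) :
    Nat.gcd 2 (Nat.card F - 1) * Nat.card (ConjClasses.mk (ub b)).carrier = Nat.card F ^ 2 - 1 := by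
  have h := (Subgroup.centralizer {ub b}).card_mul_index
  rw [Nat.card_congr (cenUbEquiv hb), Nat.card_prod, card_sq_eq_one, card_sl2] at h
  rw [card_carrier_mk]
  have h0 : 0 < Nat.card F := Nat.card_pos
  apply Nat.eq_of_mul_eq_mul_left h0
  have e : Nat.card F ^ 2 - 1 = (Nat.card F + 1) * (Nat.card F - 1) := by
    simpa using Nat.sq_sub_sq (Nat.card F) 1
  rw [e]
  linear_combination h

/-- trace of a conjugacy class -/
def clTr : ConjClasses SL(2, F) → F :=
  Quotient.lift (fun g : SL(2, F) => (g : Matrix (Fin 2) (Fin 2) F).trace) fun a b h => by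
    obtain ⟨m, rfl⟩ := isConj_iff.1 (show IsConj a b from h)
    exact (sl_trace_conj m a).symm

lemma clTr_mk (g : SL(2, F)) :
    clTr (ConjClasses.mk g) = (g : Matrix (Fin 2) (Fin 2) F).trace := rfl

lemma card_fiber_ne [Finite F] {t : F} (ht : t ^ 2 ≠ 4) :
    Nat.card {C : ConjClasses SL(2, F) // clTr C = t} = 1 := by
  rw [Nat.card_eq_one_iff_unique]
  refine ⟨⟨?_⟩, ⟨⟨ConjClasses.mk (slm 0 (-1) 1 t (by simp)), ?_⟩⟩⟩
  · rintro ⟨⟨g⟩, hg⟩ ⟨⟨h⟩, hh⟩
    refine Subtype.ext (ConjClasses.mk_eq_mk_iff_isConj.2 (isConj_sl_of_trace (hg.trans hh.symm) ?_))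
    rwa [show (g : Matrix (Fin 2) (Fin 2) F).trace = t from hg]
  · rw [clTr_mk, Matrix.trace_fin_two]; simp

lemma card_fiber_neg (t : F) : Nat.card {C : ConjClasses SL(2, F) // clTr C = -t} =
    Nat.card {C : ConjClasses SL(2, F) // clTr C = t} := by
  let f : ConjClasses SL(2, F) → ConjClasses SL(2, F) :=
    Quotient.map (fun g => -g) fun a b h => by
      obtain ⟨m, rfl⟩ := isConj_iff.1 (show IsConj a b from h)
      exact isConj_iff.2 ⟨m, by simp⟩
  have hf : Function.Involutive f := by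
    rintro ⟨g⟩; exact congrArg ConjClasses.mk (neg_neg g)
  refine Nat.card_congr (hf.toPerm.subtypeEquiv ?_)
  rintro ⟨g⟩
  change (g : Matrix (Fin 2) (Fin 2) F).trace = -t ↔
    ((-g : SL(2, F)) : Matrix (Fin 2) (Fin 2) F).trace = t
  rw [Matrix.SpecialLinearGroup.coe_neg, Matrix.trace_neg, neg_eq_iff_eq_neg]

lemma card_unip_classes [Finite F] :
    Nat.card {C : ConjClasses SL(2, F) // ∃ b ≠ 0, ConjClasses.mk (ub b) = C} =
      Nat.gcd 2 (Nat.card F - 1) := by
  rcases Nat.even_or_odd (Nat.card F) with h | h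
  · rw [gcd_two_of_even h Nat.card_pos.ne', Nat.card_eq_one_iff_unique]
    refine ⟨⟨?_⟩, ⟨⟨_, 1, one_ne_zero, rfl⟩⟩⟩
    rintro ⟨_, b, hb, rfl⟩ ⟨_, c, hc, rfl⟩
    refine Subtype.ext (ConjClasses.mk_eq_mk_iff_isConj.2 ((isConj_ub_iff hb hc).2 ?_))
    have := Fintype.ofFinite F
    refine FiniteField.isSquare_of_char_two ?_ _
    rw [FiniteField.even_card_iff_char_two, ← Nat.card_eq_fintype_card]
    exact Nat.even_iff.1 h
  · have := Fintype.ofFinite F
    have hc : ringChar F ≠ 2 := by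
      rw [Ne, FiniteField.even_card_iff_char_two, ← Nat.card_eq_fintype_card, Nat.odd_iff.1 h]
      decide
    obtain ⟨e, he⟩ := FiniteField.exists_nonsquare hc
    have he0 : e ≠ 0 := by rintro rfl; exact he IsSquare.zero
    rw [gcd_two_of_odd h, Nat.card_eq_two_iff' ⟨_, 1, one_ne_zero, rfl⟩]
    refine ⟨⟨_, e, he0, rfl⟩, fun e' => he ?_, ?_⟩
    · have := (isConj_ub_iff he0 one_ne_zero).1
        (ConjClasses.mk_eq_mk_iff_isConj.1 (congrArg Subtype.val e'))
      rwa [mul_one] at this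
    · rintro ⟨_, b, hb, rfl⟩ hne
      refine Subtype.ext (ConjClasses.mk_eq_mk_iff_isConj.2 ((isConj_ub_iff hb he0).2 ?_))
      have hb' : ¬ IsSquare b := fun hs => hne (Subtype.ext (ConjClasses.mk_eq_mk_iff_isConj.2
        ((isConj_ub_iff hb one_ne_zero).2 (by rwa [mul_one]))))
      classical
      rw [← quadraticChar_one_iff_isSquare (mul_ne_zero hb he0), map_mul,
        quadraticChar_neg_one_iff_not_isSquare.2 hb', quadraticChar_neg_one_iff_not_isSquare.2 he]
      norm_num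

lemma card_fiber_two [Finite F] :
    Nat.card {C : ConjClasses SL(2, F) // clTr C = 2} = Nat.gcd 2 (Nat.card F - 1) + 1 := by
  rw [← card_unip_classes]
  have : {C : ConjClasses SL(2, F) | clTr C = 2} =
      insert (ConjClasses.mk 1) {C | ∃ b ≠ 0, ConjClasses.mk (ub b) = C} := by
    ext ⟨g⟩
    constructor
    · intro hg
      by_cases h1 : g = 1
      · left; rw [h1]; rfl
      · obtain ⟨b, hb, h⟩ := exists_conj_ub hg h1
        exact Or.inr ⟨b, hb, ConjClasses.mk_eq_mk_iff_isConj.2 h⟩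
    · rintro (h | ⟨b, -, h⟩)
      · rw [h, Set.mem_setOf_eq, clTr_mk]; simp
      · rw [← h, Set.mem_setOf_eq, clTr_mk, trace_ub]
  change Nat.card {C : ConjClasses SL(2, F) | clTr C = 2} = Nat.card
    {C : ConjClasses SL(2, F) | ∃ b ≠ 0, ConjClasses.mk (ub b) = C} + 1
  rw [this, Nat.card_coe_set_eq, Nat.card_coe_set_eq, Set.ncard_insert_of_notMem]
  rintro ⟨b, hb, h⟩
  exact ub_ne_one hb (isConj_one_left.1 (ConjClasses.mk_eq_mk_iff_isConj.1 h))

lemma card_classes_sum [Fintype F] : Nat.card (ConjClasses SL(2, F)) =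
    ∑ t : F, Nat.card {C : ConjClasses SL(2, F) // clTr C = t} := by
  rw [← Nat.card_congr (Equiv.sigmaFiberEquiv clTr), Nat.card_sigma]

/-- a noncentral element is `GL₂`-conjugate to its companion matrix -/
lemma exists_companion {G : Matrix (Fin 2) (Fin 2) F}
    (h : ¬ (G 0 1 = 0 ∧ G 1 0 = 0 ∧ G 0 0 = G 1 1)) :
    ∃ P : Matrix (Fin 2) (Fin 2) F, P.det ≠ 0 ∧ G * P = P * !![0, -G.det; 1, G.trace] := by
  by_cases hc : G 1 0 = 0
  · by_cases hb : G 0 1 = 0
    · refine ⟨!![1, G 0 0; 1, G 1 1], ?_, ?_⟩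
      · rw [Matrix.det_fin_two_of]; intro e; exact h ⟨hb, hc, by linear_combination -e⟩
      · ext i j
        fin_cases i <;> fin_cases j <;>
          simp [Matrix.mul_apply, Matrix.det_fin_two, Matrix.trace_fin_two, hb, hc] <;> ring
    · refine ⟨!![0, G 0 1; 1, G 1 1], by simpa using hb, ?_⟩
      ext i j
      fin_cases i <;> fin_cases j <;>
        simp [Matrix.mul_apply, Matrix.det_fin_two, Matrix.trace_fin_two] <;> ring
  · refine ⟨!![1, G 0 0; 0, G 1 0], by simpa using hc, ?_⟩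
    ext i j
    fin_cases i <;> fin_cases j <;>
      simp [Matrix.mul_apply, Matrix.det_fin_two, Matrix.trace_fin_two] <;> ring

lemma psl_mk_eq_one {g : SL(2, F)} (h : g.1 0 1 = 0 ∧ g.1 1 0 = 0 ∧ g.1 0 0 = g.1 1 1) :
    (QuotientGroup.mk g : PSL(2, F)) = 1 := by
  rw [QuotientGroup.eq_one_iff, Subgroup.mem_center_iff]
  intro m
  apply sl2_ext <;> simp only [sl2_mul_apply, h.1, h.2.1, h.2.2] <;> ring

lemma tau_jL_mk (g : SL(2, F)) :
    tau (jL (QuotientGroup.mk g : PSL(2, F))) = (g : Matrix (Fin 2) (Fin 2) F).trace ^ 2 :=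
  tau_toPGL g

/-- factorisation with prescribed traces -/
lemma exists_factor {G : SL(2, F)} (h : ¬ (G.1 0 1 = 0 ∧ G.1 1 0 = 0 ∧ G.1 0 0 = G.1 1 1))
    {s r a b : F} (e : a ^ 2 - G.1.trace * a * b + b ^ 2 - s * a + r * b + 1 = 0) :
    ∃ A B : SL(2, F), G = A * B ∧ A.1.trace = s ∧ B.1.trace = r := by
  obtain ⟨P, hP, hG⟩ := exists_companion h
  have hu : IsUnit P.det := hP.isUnit
  have hG' : G.1 = P * !![0, -G.1.det; 1, G.1.trace] * P⁻¹ := by
    rw [← hG, Matrix.mul_nonsing_inv_cancel_right _ _ hu]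
  have hd : ∀ X : Matrix (Fin 2) (Fin 2) F, (P * X * P⁻¹).det = X.det := fun X => by
    rw [Matrix.det_mul, Matrix.det_mul, Matrix.det_nonsing_inv, Ring.inverse_eq_inv]; field_simp
  have ht : ∀ X : Matrix (Fin 2) (Fin 2) F, (P * X * P⁻¹).trace = X.trace := fun X => by
    rw [Matrix.trace_mul_comm, ← Matrix.mul_assoc, Matrix.nonsing_inv_mul _ hu, Matrix.one_mul]
  set t := G.1.trace
  refine ⟨⟨P * !![a, b; r + b - a * t, s - a] * P⁻¹, ?_⟩,
    ⟨P * !![-b, -(s - a) - b * t; a, r + b] * P⁻¹, ?_⟩, Subtype.ext ?_, ?_, ?_⟩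
  · rw [hd, Matrix.det_fin_two_of]; linear_combination -e
  · rw [hd, Matrix.det_fin_two_of]; linear_combination -e
  · change G.1 = _ * _
    have hm : ∀ X Y : Matrix (Fin 2) (Fin 2) F, (P * X * P⁻¹) * (P * Y * P⁻¹) = P * (X * Y) * P⁻¹ :=
      fun X Y => by simp only [Matrix.mul_assoc, Matrix.nonsing_inv_mul_cancel_left _ _ hu]
    rw [hG', G.2, hm]
    congr 2
    clear hm hd ht hG' hG
    ext i j
    fin_cases i <;> fin_cases j <;> simp [Matrix.mul_apply] <;> grind
  · change Matrix.trace (P * _ * P⁻¹) = s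
    rw [ht, Matrix.trace_fin_two_of]; ring
  · change Matrix.trace (P * _ * P⁻¹) = r
    rw [ht, Matrix.trace_fin_two_of]; ring

lemma prod_conj_of [Finite F] {X G : SL(2, F)} (hG : (QuotientGroup.mk G : PSL(2, F)) ≠ 1)
    (h4 : X.1.trace ^ 2 ≠ 4) {r a b : F} (hr : r ^ 2 = X.1.trace ^ 2)
    (e : a ^ 2 - G.1.trace * a * b + b ^ 2 - X.1.trace * a + r * b + 1 = 0) :
    ∃ u v : PSL(2, F), (QuotientGroup.mk G : PSL(2, F)) =
      (u * QuotientGroup.mk X * u⁻¹) * (v * QuotientGroup.mk X * v⁻¹) := by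
  obtain ⟨A, B, rfl, hA, hB⟩ := exists_factor (fun h => hG (psl_mk_eq_one h)) e
  obtain ⟨u, hu⟩ := isConj_iff.1 (isConj_psl_of_tau (g := QuotientGroup.mk X)
    (h := QuotientGroup.mk A) (by rw [tau_jL_mk, tau_jL_mk, hA]) (by rwa [tau_jL_mk]))
  obtain ⟨v, hv⟩ := isConj_iff.1 (isConj_psl_of_tau (g := QuotientGroup.mk X)
    (h := QuotientGroup.mk B) (by rw [tau_jL_mk, tau_jL_mk, hB, hr]) (by rwa [tau_jL_mk]))
  exact ⟨u, v, by rw [hu, hv]; rfl⟩

/-- trace `±2` means unipotent in `PSL₂` -/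
lemma psl_pow_char {p : ℕ} [Fact p.Prime] [CharP F p] {X : SL(2, F)} (h : X.1.trace ^ 2 = 4) :
    (QuotientGroup.mk X : PSL(2, F)) ^ p = 1 := by
  have key : ∀ Y : SL(2, F), Y.1.trace = 2 → Y ^ p = 1 := fun Y hY => by
    by_cases h1 : Y = 1
    · rw [h1, one_pow]
    · exact orderOf_dvd_iff_pow_eq_one.1 (orderOf_eq_char_iff.2 (exists_conj_ub hY h1)).dvd
  have : (X.1.trace - 2) * (X.1.trace + 2) = 0 := by linear_combination h
  rcases mul_eq_zero.1 this with h | h
  · rw [← QuotientGroup.mk_pow, key X (by linear_combination h)]; rfl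
  · have e : (QuotientGroup.mk X : PSL(2, F)) = QuotientGroup.mk (-X) := by
      rw [QuotientGroup.eq, mul_neg, inv_mul_cancel, Subgroup.mem_center_iff]; simp
    rw [e, ← QuotientGroup.mk_pow, key (-X)]; · rfl
    rw [Matrix.SpecialLinearGroup.coe_neg, Matrix.trace_neg]; linear_combination -h

lemma psl_sq_of_trace {X : SL(2, F)} (h : X.1.trace = 0) :
    (QuotientGroup.mk X : PSL(2, F)) ^ 2 = 1 := by
  rw [← QuotientGroup.mk_pow, sq]
  rw [Matrix.trace_fin_two] at h
  apply psl_mk_eq_one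
  simp only [sl2_mul_apply]
  refine ⟨?_, ?_, ?_⟩ <;> grind

/-- a noncentral element has a conjugate with nonzero lower left entry -/
lemma exists_conj_lower {G : SL(2, F)} (h : (QuotientGroup.mk G : PSL(2, F)) ≠ 1) :
    ∃ m : SL(2, F), (m * G * m⁻¹).1 1 0 ≠ 0 := by
  by_contra hn
  push Not at hn
  have h1 := hn 1
  have h2 := hn (slm 0 1 (-1) 0 (by simp))
  have h3 := hn (slm 1 0 1 1 (by simp))
  simp only [sl2_mul_apply, Matrix.SpecialLinearGroup.coe_inv, Matrix.adjugate_fin_two] at h1 h2 h3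
  simp at h1 h2 h3
  exact h (psl_mk_eq_one ⟨h2, h1, by grind⟩)

end H4
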