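import Cfsg.Agent.H4.TCT3.Main
import Cfsg.Agent.H4.TCT4.Main
import Cfsg.Agent.H4.TCT5.Main
import Cfsg.Agent.H4.Small

/-! The spherical triangle groups: homomorphisms out of `A₄`, `S₄` and `A₅`. -/

set_option autoImplicit false

namespace H4

open H0

section
variable {G0 G : Type*} [Group G0] [Group G]

theorem exists_hom_of_card_le [Finite G0] (D : Subgroup (G0 × G)) [Finite D]
    (hc : Nat.card D ≤ Nat.card G0) (hs : D.map (MonoidHom.fst G0 G) = ⊤) :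
    ∃ φ : G0 →* G, ∀ d ∈ D, φ d.1 = d.2 := by
  have hsurj : Function.Surjective ((MonoidHom.fst G0 G).comp D.subtype) := by
    intro g
    obtain ⟨d, hd, e⟩ : g ∈ D.map (MonoidHom.fst G0 G) := hs ▸ Subgroup.mem_top g
    exact ⟨⟨d, hd⟩, e⟩
  have hb : Function.Bijective ((MonoidHom.fst G0 G).comp D.subtype) :=
    hsurj.bijective_of_nat_card_le hc
  let e := MulEquiv.ofBijective _ hb
  refine ⟨(MonoidHom.snd G0 G).comp (D.subtype.comp e.symm.toMonoidHom), fun d hd => ?_⟩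
  have : e.symm d.1 = ⟨d, hd⟩ := e.symm_apply_eq.2 rfl
  simp [this]

lemma ev_mem (g : ℕ → G) (S : Subgroup G) (h : ∀ i, g i ∈ S) (w : List ℕ) : ev g w ∈ S := by
  induction w with
  | nil => exact S.one_mem
  | cons x w ih => rw [ev_cons]; exact S.mul_mem (h x) ih

theorem eq_top_of_nodup [Finite G] (g : ℕ → G) (ws : List (List ℕ))
    (hn : (ws.map (ev g)).Nodup) (hl : Nat.card G ≤ ws.length) (S : Subgroup G)
    (h : ∀ i, g i ∈ S) : S = ⊤ := by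
  classical
  apply Subgroup.eq_top_of_le_card
  refine hl.trans ?_
  have h1 : ((ws.map (ev g)).toFinset : Set G) ⊆ (S : Set G) := by
    intro x hx
    simp only [List.coe_toFinset, List.mem_map, Set.mem_setOf_eq] at hx
    obtain ⟨w, -, rfl⟩ := hx
    exact ev_mem g S h w
  have h2 := Set.ncard_le_ncard h1 (Set.toFinite _)
  rwa [Set.ncard_coe_finset, List.toFinset_card_of_nodup hn, List.length_map] at h2

/-- The generating triple `a, b, b⁻¹`. -/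
def g3 (a b : G) (i : ℕ) : G := if i = 0 then a else if i = 1 then b else b⁻¹

lemma closure_g3 (a b : G) :
    Subgroup.closure (g3 a b '' {x | x < 3}) = Subgroup.closure {a, b} := by
  apply le_antisymm
  · rw [Subgroup.closure_le]
    rintro _ ⟨i, -, rfl⟩
    unfold g3
    split_ifs
    · exact Subgroup.subset_closure (by simp)
    · exact Subgroup.subset_closure (by simp)
    · exact Subgroup.inv_mem _ (Subgroup.subset_closure (by simp))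
  · apply Subgroup.closure_mono
    rintro _ (rfl | rfl)
    · exact ⟨0, by simp, rfl⟩
    · exact ⟨1, by simp, rfl⟩

lemma g3_mem {a b : G} {S : Subgroup G} (ha : a ∈ S) (hb : b ∈ S) (i : ℕ) : g3 a b i ∈ S := by
  unfold g3
  split_ifs
  · exact ha
  · exact hb
  · exact S.inv_mem hb

lemma card_le_of_relIndex {K : Subgroup G} {n : ℕ}
    (h : (⊥ : Subgroup G).relIndex K ≠ 0 ∧ (⊥ : Subgroup G).relIndex K ≤ n) :
    Finite K ∧ Nat.card K ≤ n := by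
  rw [Subgroup.relIndex_bot_left] at h
  exact ⟨Nat.finite_of_card_ne_zero h.1, h.2⟩

theorem exists_hom_of_pair [Finite G0] {a0 b0 : G0} {a b : G}
    (hgen : ∀ S : Subgroup G0, a0 ∈ S → b0 ∈ S → S = ⊤)
    (h : Finite (Subgroup.closure ({(a0, a), (b0, b)} : Set (G0 × G))) ∧
      Nat.card (Subgroup.closure ({(a0, a), (b0, b)} : Set (G0 × G))) ≤ Nat.card G0) :
    ∃ φ : G0 →* G, φ a0 = a ∧ φ b0 = b := by
  have := h.1
  obtain ⟨φ, hφ⟩ := exists_hom_of_card_le _ h.2 (hgen _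
    ⟨(a0, a), Subgroup.subset_closure (by simp), rfl⟩
    ⟨(b0, b), Subgroup.subset_closure (by simp), rfl⟩)
  exact ⟨φ, hφ (a0, a) (Subgroup.subset_closure (by simp)),
    hφ (b0, b) (Subgroup.subset_closure (by simp))⟩

theorem tri3_card {a b : G} (ha : a * a = 1) (hb : b ^ 3 = 1) (hab : (a * b) ^ 3 = 1) :
    Finite (Subgroup.closure ({a, b} : Set G)) ∧
      Nat.card (Subgroup.closure ({a, b} : Set G)) ≤ 12 := by
  rw [← closure_g3]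
  refine card_le_of_relIndex (TCT3.main (g3 a b) ?_ ⊥ (by simp [TCT3.subs]))
  simp only [TCT3.B, List.forall_mem_cons, ev_cons, ev_nil, g3]
  simp only [pow_succ, pow_zero, one_mul, mul_assoc] at hb hab
  simp [ha, hb, hab]

theorem tri4_card {a b : G} (ha : a * a = 1) (hb : b ^ 3 = 1) (hab : (a * b) ^ 4 = 1) :
    Finite (Subgroup.closure ({a, b} : Set G)) ∧
      Nat.card (Subgroup.closure ({a, b} : Set G)) ≤ 24 := by
  rw [← closure_g3]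
  refine card_le_of_relIndex (TCT4.main (g3 a b) ?_ ⊥ (by simp [TCT4.subs]))
  simp only [TCT4.B, List.forall_mem_cons, ev_cons, ev_nil, g3]
  simp only [pow_succ, pow_zero, one_mul, mul_assoc] at hb hab
  simp [ha, hb, hab]

theorem tri5_card {a b : G} (ha : a * a = 1) (hb : b ^ 3 = 1) (hab : (a * b) ^ 5 = 1) :
    Finite (Subgroup.closure ({a, b} : Set G)) ∧
      Nat.card (Subgroup.closure ({a, b} : Set G)) ≤ 60 := by
  rw [← closure_g3]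
  refine card_le_of_relIndex (TCT5.main (g3 a b) ?_ ⊥ (by simp [TCT5.subs]))
  simp only [TCT5.B, List.forall_mem_cons, ev_cons, ev_nil, g3]
  simp only [pow_succ, pow_zero, one_mul, mul_assoc] at hb hab
  simp [ha, hb, hab]

end

/-- Standard involution in `A₄`. -/
def a4a : alternatingGroup (Fin 4) :=
  ⟨Equiv.swap 0 1 * Equiv.swap 2 3, Equiv.Perm.mem_alternatingGroup.2 (by decide)⟩
/-- Standard three-cycle in `A₄`. -/
def a4b : alternatingGroup (Fin 4) :=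
  ⟨Equiv.swap 0 1 * Equiv.swap 1 2, Equiv.Perm.mem_alternatingGroup.2 (by decide)⟩
/-- Standard transposition in `S₄`. -/
def s4a : Equiv.Perm (Fin 4) := Equiv.swap 0 1
/-- Standard three-cycle in `S₄`. -/
def s4b : Equiv.Perm (Fin 4) := Equiv.swap 1 2 * Equiv.swap 2 3
/-- Standard involution in `A₅`. -/
def a5a : alternatingGroup (Fin 5) :=
  ⟨Equiv.swap 0 1 * Equiv.swap 2 3, Equiv.Perm.mem_alternatingGroup.2 (by decide)⟩
/-- Standard three-cycle in `A₅`. -/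
def a5b : alternatingGroup (Fin 5) :=
  ⟨Equiv.swap 0 2 * Equiv.swap 2 4, Equiv.Perm.mem_alternatingGroup.2 (by decide)⟩

lemma card_alt4 : Nat.card (alternatingGroup (Fin 4)) = 12 := by
  rw [nat_card_alternatingGroup]; simp [Nat.factorial]

lemma card_alt5 : Nat.card (alternatingGroup (Fin 5)) = 60 := by
  rw [nat_card_alternatingGroup]; simp [Nat.factorial]

lemma card_sym4 : Nat.card (Equiv.Perm (Fin 4)) = 24 := by
  rw [Nat.card_perm]; simp [Nat.factorial]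

lemma a4_gen (S : Subgroup (alternatingGroup (Fin 4))) (ha : a4a ∈ S) (hb : a4b ∈ S) : S = ⊤ :=
  eq_top_of_nodup (g3 a4a a4b)
    [[], [0], [1], [1, 0], [0, 1], [1, 1], [0, 1, 0], [1, 1, 0], [1, 0, 1], [0, 1, 1], [1, 1, 0,
    1], [1, 0, 1, 1]]
    (by decide +kernel) (by rw [card_alt4]; rfl) S (g3_mem ha hb)

lemma s4_gen (S : Subgroup (Equiv.Perm (Fin 4))) (ha : s4a ∈ S) (hb : s4b ∈ S) : S = ⊤ :=
  eq_top_of_nodup (g3 s4a s4b)
    [[], [0], [1], [1, 0], [0, 1], [1, 1], [0, 1, 0], [1, 1, 0], [1, 0, 1], [0, 1, 1], [1, 0, 1,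
    0], [0, 1, 1, 0], [0, 1, 0, 1], [1, 1, 0, 1], [1, 0, 1, 1], [0, 1, 0, 1, 0], [1, 1, 0, 1,
    0], [1, 0, 1, 1, 0], [0, 1, 1, 0, 1], [0, 1, 0, 1, 1], [0, 1, 1, 0, 1, 0], [0, 1, 0, 1, 1,
    0], [1, 0, 1, 1, 0, 1], [1, 0, 1, 1, 0, 1, 0]]
    (by decide +kernel) (by rw [card_sym4]; rfl) S (g3_mem ha hb)

lemma a5_gen (S : Subgroup (alternatingGroup (Fin 5))) (ha : a5a ∈ S) (hb : a5b ∈ S) : S = ⊤ :=
  eq_top_of_nodup (g3 a5a a5b)
    [[], [0], [1], [1, 0], [0, 1], [1, 1], [0, 1, 0], [1, 1, 0], [1, 0, 1], [0, 1, 1], [1, 0, 1,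
    0], [0, 1, 1, 0], [0, 1, 0, 1], [1, 1, 0, 1], [1, 0, 1, 1], [0, 1, 0, 1, 0], [1, 1, 0, 1,
    0], [1, 0, 1, 1, 0], [1, 0, 1, 0, 1], [0, 1, 1, 0, 1], [0, 1, 0, 1, 1], [1, 1, 0, 1, 1], [1,
    0, 1, 0, 1, 0], [0, 1, 1, 0, 1, 0], [0, 1, 0, 1, 1, 0], [1, 1, 0, 1, 1, 0], [1, 1, 0, 1, 0,
    1], [1, 0, 1, 1, 0, 1], [1, 0, 1, 0, 1, 1], [1, 1, 0, 1, 0, 1, 0], [1, 0, 1, 1, 0, 1, 0],
    [1, 0, 1, 0, 1, 1, 0], [0, 1, 1, 0, 1, 0, 1], [0, 1, 0, 1, 1, 0, 1], [1, 1, 0, 1, 1, 0, 1],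
    [1, 1, 0, 1, 0, 1, 1], [0, 1, 1, 0, 1, 0, 1, 0], [0, 1, 0, 1, 1, 0, 1, 0], [1, 1, 0, 1, 1,
    0, 1, 0], [1, 1, 0, 1, 0, 1, 1, 0], [1, 0, 1, 1, 0, 1, 0, 1], [1, 0, 1, 0, 1, 1, 0, 1], [0,
    1, 1, 0, 1, 0, 1, 1], [1, 0, 1, 1, 0, 1, 0, 1, 0], [1, 0, 1, 0, 1, 1, 0, 1, 0], [0, 1, 1, 0,
    1, 0, 1, 1, 0], [0, 1, 0, 1, 1, 0, 1, 0, 1], [1, 1, 0, 1, 1, 0, 1, 0, 1], [1, 1, 0, 1, 0, 1,
    1, 0, 1], [1, 0, 1, 1, 0, 1, 0, 1, 1], [0, 1, 0, 1, 1, 0, 1, 0, 1, 0], [1, 1, 0, 1, 1, 0, 1,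
    0, 1, 0], [1, 1, 0, 1, 0, 1, 1, 0, 1, 0], [1, 0, 1, 1, 0, 1, 0, 1, 1, 0], [0, 1, 1, 0, 1, 0,
    1, 1, 0, 1], [0, 1, 0, 1, 1, 0, 1, 0, 1, 1], [0, 1, 1, 0, 1, 0, 1, 1, 0, 1, 0], [0, 1, 0, 1,
    1, 0, 1, 0, 1, 1, 0], [1, 0, 1, 1, 0, 1, 0, 1, 1, 0, 1], [1, 0, 1, 1, 0, 1, 0, 1, 1, 0, 1,
    0]]
    (by decide +kernel) (by rw [card_alt5]; rfl) S (g3_mem ha hb)

lemma a4_rel : a4a * a4a = 1 ∧ a4b ^ 3 = 1 ∧ (a4a * a4b) ^ 3 = 1 := by decide +kernel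
lemma s4_rel : s4a * s4a = 1 ∧ s4b ^ 3 = 1 ∧ (s4a * s4b) ^ 4 = 1 := by decide +kernel
lemma a5_rel : a5a * a5a = 1 ∧ a5b ^ 3 = 1 ∧ (a5a * a5b) ^ 5 = 1 := by decide +kernel

lemma a4_normal : ∀ g : alternatingGroup (Fin 4), g ≠ 1 → ∃ h k : alternatingGroup (Fin 4),
    a4a = h * g * h⁻¹ ∨ a4a = h * g * h⁻¹ * (k * g⁻¹ * k⁻¹) := by decide +kernel

lemma s4_normal : ∀ g : Equiv.Perm (Fin 4), g ≠ 1 → ∃ h k : Equiv.Perm (Fin 4),
    (s4a * s4b) ^ 2 = h * g * h⁻¹ ∨ (s4a * s4b) ^ 2 = h * g * h⁻¹ * (k * g⁻¹ * k⁻¹) := by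
  decide +kernel

lemma a4_pow : ∀ g : alternatingGroup (Fin 4), g ^ 2 = 1 ∨ g ^ 3 = 1 := by decide +kernel
lemma s4_pow : ∀ g : Equiv.Perm (Fin 4), g ^ 3 = 1 ∨ g ^ 4 = 1 := by decide +kernel
lemma a5_pow : ∀ g : alternatingGroup (Fin 5), g ^ 2 = 1 ∨ g ^ 3 = 1 ∨ g ^ 5 = 1 := by
  decide +kernel
lemma a4_no_s3 : ∀ a b : alternatingGroup (Fin 4), a * a = 1 → a * b * a⁻¹ = b⁻¹ → b * b = 1 := by
  decide +kernel

section
variable {G : Type*} [Group G]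

theorem exists_hom_a4 {a b : G} (ha : a * a = 1) (hb : b ^ 3 = 1) (hab : (a * b) ^ 3 = 1)
    (h1 : a ≠ 1) : ∃ φ : alternatingGroup (Fin 4) →* G, Function.Injective φ ∧
      φ a4a = a ∧ φ a4b = b := by
  obtain ⟨φ, h2, h3⟩ := exists_hom_of_pair (a := a) (b := b) a4_gen (by
    rw [card_alt4]
    exact tri3_card (Prod.ext a4_rel.1 ha) (Prod.ext a4_rel.2.1 hb) (Prod.ext a4_rel.2.2 hab))
  refine ⟨φ, (injective_iff_map_eq_one φ).2 fun g hg => ?_, h2, h3⟩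
  by_contra hne
  obtain ⟨h, k, e | e⟩ := a4_normal g hne <;> exact h1 (by rw [← h2, e]; simp [hg])

theorem exists_hom_s4 {a b : G} (ha : a * a = 1) (hb : b ^ 3 = 1) (hab : (a * b) ^ 4 = 1)
    (h1 : (a * b) ^ 2 ≠ 1) : ∃ φ : Equiv.Perm (Fin 4) →* G, Function.Injective φ ∧
      φ s4a = a ∧ φ s4b = b := by
  obtain ⟨φ, h2, h3⟩ := exists_hom_of_pair (a := a) (b := b) s4_gen (by
    rw [card_sym4]
    exact tri4_card (Prod.ext s4_rel.1 ha) (Prod.ext s4_rel.2.1 hb) (Prod.ext s4_rel.2.2 hab))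
  refine ⟨φ, (injective_iff_map_eq_one φ).2 fun g hg => ?_, h2, h3⟩
  by_contra hne
  obtain ⟨h, k, e | e⟩ := s4_normal g hne <;>
    exact h1 (by rw [← h2, ← h3, ← map_mul, ← map_pow, e]; simp [hg])

theorem exists_hom_a5 {a b : G} (ha : a * a = 1) (hb : b ^ 3 = 1) (hab : (a * b) ^ 5 = 1)
    (h1 : a ≠ 1) : ∃ φ : alternatingGroup (Fin 5) →* G, Function.Injective φ ∧
      φ a5a = a ∧ φ a5b = b := by
  obtain ⟨φ, h2, h3⟩ := exists_hom_of_pair (a := a) (b := b) a5_gen (by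
    rw [card_alt5]
    exact tri5_card (Prod.ext a5_rel.1 ha) (Prod.ext a5_rel.2.1 hb) (Prod.ext a5_rel.2.2 hab))
  refine ⟨φ, ?_, h2, h3⟩
  rw [← MonoidHom.ker_eq_bot_iff]
  refine (MonoidHom.normal_ker φ).eq_bot_or_eq_top.resolve_right fun e => h1 ?_
  rw [← h2]
  exact (e ▸ Subgroup.mem_top a5a : a5a ∈ φ.ker)

end

end H4
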