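import Cfsg.Agent.H8.AutA
import Cfsg.Agent.H4.Cover

/-! Subgroups of index six in the symmetric group of degree six. -/

set_option autoImplicit false
set_option maxSynthPendingDepth 3

namespace H4.Sx
open Equiv Equiv.Perm MulAction Subgroup
open scoped MatrixGroups

abbrev S6 := Perm (Fin 6)

lemma card_S6 : Nat.card S6 = 720 := by
  rw [Nat.card_perm, Nat.card_eq_fintype_card, Fintype.card_fin]; norm_num [Nat.factorial]

lemma index_stab (x : Fin 6) : (stabilizer S6 x).index = 6 := by
  rw [index_stabilizer_of_transitive]; simp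

lemma index_A : (alternatingGroup (Fin 6)).index = 2 := alternatingGroup.index_eq_two

lemma exists_three {x y : Fin 6} (h : x ≠ y) : ∃ g : S6, g.IsThreeCycle ∧ g x = x ∧ g y ≠ y := by
  obtain ⟨a, b, h1, h2, h3, h4, h5⟩ : ∃ a b : Fin 6, y ≠ a ∧ y ≠ b ∧ a ≠ b ∧ x ≠ a ∧ x ≠ b := by
    revert x y; decide
  refine ⟨swap y a * swap y b, isThreeCycle_swap_mul_swap_same h1 h2 h3, ?_, ?_⟩
  · rw [mul_apply, swap_apply_of_ne_of_ne h h5, swap_apply_of_ne_of_ne h h4]
  · rw [mul_apply, swap_apply_left, swap_apply_of_ne_of_ne h2.symm h3.symm]; exact h2.symm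

lemma index_sub {H : Subgroup S6} (h : H.index = 6) :
    (H.subgroupOf (alternatingGroup (Fin 6))).index = 6 := by
  have h1 := relIndex_mul_index (inf_le_right : H ⊓ alternatingGroup (Fin 6) ≤ _)
  have h2 := relIndex_mul_index (inf_le_left : H ⊓ alternatingGroup (Fin 6) ≤ _)
  rw [inf_relIndex_right, index_A] at h1
  rw [inf_relIndex_left, h] at h2
  have h3 := relIndex_dvd_index_of_normal (alternatingGroup (Fin 6)) H
  rw [index_A] at h3
  change H.relIndex _ = 6
  rcases (Nat.dvd_prime Nat.prime_two).1 h3 with h4 | h4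
  · have := H8.alt_index_large (n := 6) (by norm_num) (H.subgroupOf (alternatingGroup (Fin 6)))
      (by change 2 ≤ H.relIndex _; omega)
    change 7 < 2 * H.relIndex _ at this
    omega
  · omega

lemma eq_of_le_index {G : Type*} [Group G] [Finite G] {H K : Subgroup G} (h : H ≤ K)
    (hi : H.index = K.index) : H = K := by
  have h1 := H.card_mul_index
  have h2 := K.card_mul_index
  have h3 : K.index ≠ 0 := index_ne_zero_of_finite
  exact eq_of_le_of_card_ge h (le_of_eq (Nat.eq_of_mul_eq_mul_right (Nat.pos_of_ne_zero h3)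
    (by rw [h2, ← hi, h1])))

lemma stab_of_three {H : Subgroup S6} (h : H.index = 6) {g : S6} (hg : g ∈ H)
    (h3 : g.IsThreeCycle) : ∃ x : Fin 6, H = stabilizer S6 x := by
  obtain ⟨x, hx⟩ := H8.fix_of_index (Ω := Fin 6) (by simp)
    (H := H.subgroupOf (alternatingGroup (Fin 6))) (by rw [index_sub h]; simp)
    (Or.inr ⟨⟨g, h3.mem_alternatingGroup⟩, hg, h3⟩)
  have hx' : ∀ k ∈ H, k ∈ alternatingGroup (Fin 6) → k x = x := fun k h1 h2 =>
    hx ⟨⟨k, h2⟩, h1⟩
  have e : H.subgroupOf (alternatingGroup (Fin 6)) =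
      (stabilizer S6 x).subgroupOf (alternatingGroup (Fin 6)) :=
    eq_of_le_index (fun k hk => hx' k hk k.2) (by rw [index_sub h, index_sub (index_stab x)])
  refine ⟨x, eq_of_le_index (fun k hk => ?_) (by rw [h, index_stab])⟩
  by_contra hne
  obtain ⟨c, c3, c1, c2⟩ := exists_three (x := x) (y := k x) fun e => hne e.symm
  have hc : c ∈ H := by
    have : (⟨c, c3.mem_alternatingGroup⟩ : alternatingGroup (Fin 6)) ∈
      H.subgroupOf (alternatingGroup (Fin 6)) := e ▸ c1
    exact this
  have := hx' (k⁻¹ * c * k) (H.mul_mem (H.mul_mem (H.inv_mem hk) hc) hk)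
    ((inferInstance : (alternatingGroup (Fin 6)).Normal).conj_mem' _ c3.mem_alternatingGroup k)
  apply c2
  rw [mul_apply, mul_apply] at this
  exact (inv_eq_iff_eq.1 this)

lemma core_bot {H : Subgroup S6} (h : H.index = 6) : H.normalCore = ⊥ := by
  by_contra hne
  have := index_dvd_of_le ((alternatingGroup_le_of_normal (by simp)
    ((nontrivial_iff_ne_bot _).2 hne)).trans H.normalCore_le)
  rw [h, index_A] at this
  omega

lemma card_of_index {H : Subgroup S6} (h : H.index = 6) : Nat.card H = 120 := by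
  have := H.card_mul_index
  rw [h, card_S6] at this
  omega

lemma perm_stab {G Ω : Type*} [Group G] [Finite G] [MulAction G Ω] [Finite Ω]
    (hf : (toPermHom G Ω).ker = ⊥) (a : Ω) {n : ℕ} (hn : Nat.card Ω = n + 1)
    (hG : Nat.card (stabilizer G a) = n.factorial) : Nonempty (stabilizer G a ≃* Perm (Fin n)) :=
  equiv_perm_of_injective (toPermHom (stabilizer G a) (SubMulAction.ofStabilizer G a))
    ((injective_iff_map_eq_one _).2 fun g hg => by
      have : (g : G) ∈ (toPermHom G Ω).ker := Equiv.ext fun x => by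
        by_cases e : x = a
        · subst e; exact g.2
        · exact congrArg Subtype.val (DFunLike.congr_fun hg ⟨x, e⟩)
      rwa [hf, mem_bot, OneMemClass.coe_eq_one] at this)
    (by have := SubMulAction.nat_card_ofStabilizer_add_one_eq G a; omega) hG

lemma equiv_S5 {H : Subgroup S6} (h : H.index = 6) : Nonempty (H ≃* Perm (Fin 5)) := by
  obtain ⟨e⟩ := perm_stab ((normalCore_eq_ker H).symm.trans (core_bot h)) ((1 : S6) : S6 ⧸ H)
    (n := 5) h (by rw [stabilizer_quotient, card_of_index h]; rfl)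
  exact ⟨(MulEquiv.subgroupCongr (stabilizer_quotient H).symm).trans e⟩

lemma exists_H0 : ∃ H : Subgroup S6, H.index = 6 ∧ ∀ g ∈ H, ¬ g.IsThreeCycle := by
  haveI : Fact (Nat.Prime 5) := ⟨by norm_num⟩
  obtain ⟨e⟩ : Nonempty (OnePoint (ZMod 5) ≃ Fin 6) :=
    ⟨Finite.equivFinOfCardEq (by rw [card_onePoint]; simp)⟩
  let φ : PGL(2, ZMod 5) →* S6 :=
    e.permCongrHom.toMonoidHom.comp (toPermHom PGL(2, ZMod 5) (OnePoint (ZMod 5)))
  have hφ : Function.Injective φ := e.permCongrHom.injective.comp pgl_toPerm_injective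
  refine ⟨φ.range, ?_, ?_⟩
  · have := φ.range.card_mul_index
    rw [← Nat.card_congr (MonoidHom.ofInjective hφ).toEquiv, card_pgl2, card_S6] at this
    simp at this
    omega
  · rintro _ ⟨m, rfl⟩ h3
    have hc : (φ m).supportᶜ.card = 3 := by rw [Finset.card_compl, h3.card_support]; rfl
    obtain ⟨x, y, z, hxy, hxz, hyz, hs⟩ := Finset.card_eq_three.1 hc
    have key : ∀ w ∈ (φ m).supportᶜ, m • e.symm w = e.symm w := fun w hw => by
      rw [Finset.mem_compl, notMem_support] at hw
      apply e.injective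
      rw [e.apply_symm_apply]
      exact hw
    have := pgl_three m (e.symm x) (e.symm y) (e.symm z) (e.symm.injective.ne hxy)
      (e.symm.injective.ne hxz) (e.symm.injective.ne hyz) (key _ (by simp [hs]))
      (key _ (by simp [hs])) (key _ (by simp [hs]))
    have h1 := h3.orderOf
    rw [this, map_one, orderOf_one] at h1
    omega

lemma three_of_conj {g h : S6} (hg : g.IsThreeCycle) (e : IsConj g h) : h.IsThreeCycle :=
  (isConj_iff_cycleType_eq.1 e).symm.trans hg

lemma exists_tau : ∃ τ : S6 ≃* S6, ∀ g : S6, g.IsThreeCycle → ∀ x, τ g x ≠ x := by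
  obtain ⟨H, h, h3⟩ := exists_H0
  obtain ⟨e⟩ : Nonempty (S6 ⧸ H ≃ Fin 6) := ⟨Finite.equivFinOfCardEq h⟩
  let φ : S6 →* S6 := e.permCongrHom.toMonoidHom.comp (toPermHom S6 (S6 ⧸ H))
  have hφ : Function.Injective φ := e.permCongrHom.injective.comp
    ((MonoidHom.ker_eq_bot_iff _).1 ((normalCore_eq_ker H).symm.trans (core_bot h)))
  refine ⟨MulEquiv.ofBijective φ (Finite.injective_iff_bijective.1 hφ), fun g hg x hx => ?_⟩
  obtain ⟨s, hs⟩ := QuotientGroup.mk_surjective (e.symm x)
  have : g • e.symm x = e.symm x := by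
    apply e.injective
    rw [e.apply_symm_apply]
    exact hx
  rw [← hs, Quotient.smul_mk, eq_comm, QuotientGroup.eq] at this
  refine h3 _ this (three_of_conj hg (isConj_iff.2 ⟨s⁻¹, ?_⟩))
  rw [inv_inv, smul_eq_mul, mul_assoc]

lemma type_three {g : S6} (h : orderOf g = 3) :
    g.IsThreeCycle ∨ g.cycleType = Multiset.replicate 2 3 := by
  obtain ⟨n, hn⟩ := cycleType_prime_order (σ := g) (by rw [h]; norm_num)
  have := sum_cycleType_le g
  rw [hn, h, Multiset.sum_replicate] at this
  simp at this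
  rw [h] at hn
  have : n = 0 ∨ n = 1 := by omega
  rcases this with rfl | rfl
  · exact Or.inl hn
  · exact Or.inr hn

variable {τ : S6 ≃* S6} (hτ : ∀ g : S6, g.IsThreeCycle → ∀ x, τ g x ≠ x)

lemma index_comap' (x : Fin 6) : ((stabilizer S6 x).comap τ.toMonoidHom).index = 6 := by
  rw [index_comap_of_surjective _ τ.surjective, index_stab]

include hτ

lemma classify {H : Subgroup S6} (h : H.index = 6) :
    (∃ x : Fin 6, H = stabilizer S6 x) ∨ ∃ x : Fin 6, H = (stabilizer S6 x).comap τ.toMonoidHom := by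
  haveI : Fact (Nat.Prime 3) := ⟨by norm_num⟩
  obtain ⟨g, hg⟩ := exists_prime_orderOf_dvd_card' (G := H) 3 (by rw [card_of_index h]; norm_num)
  rw [← orderOf_coe] at hg
  rcases type_three hg with h3 | h3
  · exact Or.inl (stab_of_three h g.2 h3)
  right
  obtain ⟨c, c3, c1, -⟩ := exists_three (x := 0) (y := 1) (by decide)
  have hb : (τ.symm c).cycleType = Multiset.replicate 2 3 :=
    (type_three (by rw [MulEquiv.orderOf_eq, c3.orderOf])).resolve_left fun hb =>
      hτ _ hb 0 (by rw [MulEquiv.apply_symm_apply, c1])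
  have hc : IsConj c (τ g) := by
    have := τ.toMonoidHom.map_isConj (isConj_iff_cycleType_eq.2 (hb.trans h3.symm))
    simpa using this
  obtain ⟨x, hx⟩ := stab_of_three (H := H.map τ.toMonoidHom)
    (by rw [index_map_of_bijective τ.bijective, h]) ⟨g, g.2, rfl⟩ (three_of_conj c3 hc)
  exact ⟨x, by rw [← hx, comap_map_eq_self_of_injective τ.injective]⟩

lemma stab_ne (x y : Fin 6) : stabilizer S6 x ≠ (stabilizer S6 y).comap τ.toMonoidHom := fun e => by
  obtain ⟨z, hz⟩ := exists_ne x
  obtain ⟨c, c3, c1, -⟩ := exists_three hz.symm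
  have : c ∈ (stabilizer S6 y).comap τ.toMonoidHom := e ▸ c1
  exact hτ c c3 y this

omit hτ in
lemma stab_inj {x y : Fin 6} (e : stabilizer S6 x = stabilizer S6 y) : x = y := by
  by_contra h
  obtain ⟨c, -, c1, c2⟩ := exists_three h
  have : c ∈ stabilizer S6 y := e ▸ c1
  exact c2 this

omit hτ in
lemma stab_conj (g : S6) (x : Fin 6) :
    (stabilizer S6 x).map (MulAut.conj g).toMonoidHom = stabilizer S6 (g x) :=
  (stabilizer_smul_eq_stabilizer_map_conj g x).symm

omit hτ in
lemma comap_conj (g : S6) (x : Fin 6) :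
    ((stabilizer S6 x).comap τ.toMonoidHom).map (MulAut.conj g).toMonoidHom =
      (stabilizer S6 (τ g x)).comap τ.toMonoidHom := by
  rw [← stab_conj]
  ext k
  constructor
  · rintro ⟨a, ha, rfl⟩
    exact ⟨τ a, ha, by simp⟩
  · rintro ⟨a, ha, e⟩
    refine ⟨τ.symm a, by simpa using ha, τ.injective ?_⟩
    simpa using e

omit hτ in
theorem s5945 : Nat.card {H : Subgroup S6 // H.index = 6} = 12 ∧
    (∀ H : Subgroup S6, H.index = 6 → Nonempty (H ≃* Perm (Fin 5))) ∧
    ∃ H : Subgroup S6, H.index = 6 ∧ ∀ a : Fin 6, H ≠ stabilizer S6 a := by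
  obtain ⟨τ, hτ⟩ := exists_tau
  refine ⟨?_, fun H h => equiv_S5 h, _, index_comap' (τ := τ) 0, fun a e => stab_ne hτ a 0 e.symm⟩
  let f : Fin 6 ⊕ Fin 6 → {H : Subgroup S6 // H.index = 6} :=
    Sum.elim (fun x => ⟨_, index_stab x⟩) (fun x => ⟨_, index_comap' (τ := τ) x⟩)
  have hf : Function.Bijective f := by
    constructor
    · rintro (x | x) (y | y) e
      · rw [stab_inj (congrArg Subtype.val e)]
      · exact (stab_ne hτ x y (congrArg Subtype.val e)).elim
      · exact (stab_ne hτ y x (congrArg Subtype.val e).symm).elim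
      · rw [stab_inj (comap_injective τ.surjective (congrArg Subtype.val e))]
    · rintro ⟨H, h⟩
      rcases classify hτ h with ⟨x, rfl⟩ | ⟨x, rfl⟩
      · exact ⟨.inl x, rfl⟩
      · exact ⟨.inr x, rfl⟩
  rw [← Nat.card_eq_of_bijective f hf]
  simp

/-- Two classes of subgroups of index six. -/
def Two (G : Type*) [Group G] : Prop :=
  ∃ H₁ H₂ : Subgroup G, H₁.index = 6 ∧ H₂.index = 6 ∧
    (¬ ∃ g : G, H₁.map (MulAut.conj g).toMonoidHom = H₂) ∧
    ∀ H : Subgroup G, H.index = 6 →
      ∃ g : G, H₁.map (MulAut.conj g).toMonoidHom = H ∨ H₂.map (MulAut.conj g).toMonoidHom = H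

omit hτ in
lemma two_S6 : Two S6 := by
  obtain ⟨τ, hτ⟩ := exists_tau
  refine ⟨_, _, index_stab 0, index_comap' (τ := τ) 0, ?_, fun H h => ?_⟩
  · rintro ⟨g, e⟩
    rw [stab_conj] at e
    exact stab_ne hτ _ _ e
  · rcases classify hτ h with ⟨x, rfl⟩ | ⟨x, rfl⟩
    · exact ⟨swap 0 x, Or.inl (by rw [stab_conj, swap_apply_left])⟩
    · exact ⟨τ.symm (swap 0 x), Or.inr (by
        rw [comap_conj, MulEquiv.apply_symm_apply, swap_apply_left])⟩

omit hτ in
lemma Two.congr {G K : Type*} [Group G] [Group K] (e : G ≃* K) (h : Two G) : Two K := by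
  obtain ⟨A, B, hA, hB, hn, hc⟩ := h
  have key : ∀ (g : G) (H : Subgroup G), (H.map e.toMonoidHom).map (MulAut.conj (e g)).toMonoidHom =
      (H.map (MulAut.conj g).toMonoidHom).map e.toMonoidHom := fun g H => by
    rw [map_map, map_map]
    congr 1
    ext x
    simp
  refine ⟨A.map e.toMonoidHom, B.map e.toMonoidHom, by rw [index_map_of_bijective e.bijective, hA],
    by rw [index_map_of_bijective e.bijective, hB], ?_, fun H h => ?_⟩
  · rintro ⟨g, hg⟩
    obtain ⟨g, rfl⟩ := e.surjective g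
    rw [key] at hg
    exact hn ⟨g, map_injective e.injective hg⟩
  · obtain ⟨g, hg⟩ := hc (H.comap e.toMonoidHom) (by rw [index_comap_of_surjective _ e.surjective, h])
    refine ⟨e g, ?_⟩
    rw [key, key]
    rcases hg with hg | hg
    · left; rw [hg, map_comap_eq_self_of_surjective e.surjective]
    · right; rw [hg, map_comap_eq_self_of_surjective e.surjective]

end H4.Sx
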