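import Cfsg.Agent.H4.AsN

/-! # Types of quadratic spaces and small orthogonal decompositions -/

set_option autoImplicit false

namespace H4.As
open Matrix Cfsg Cfsg.Geo Module
open scoped MatrixGroups Kronecker commutatorElement

variable {ι μ κ : Type} [Fintype ι] [DecidableEq ι] [Fintype μ] [DecidableEq μ] [Fintype κ]
  [DecidableEq κ] {F : Type*} [Field F] {Q : (ι → F) → F}

local notation "σ₀" => RingHom.id F
local notation "pol" => QuadraticMap.polar

section Types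
variable (hQ : IsNondegenerateQuadraticForm Q) {W W' : Submodule F (ι → F)}

omit [DecidableEq ι] in
lemma q_ts : (qForm hQ).TS W ↔ IsTotallySingularQuad Q W := quad_TS_iff _

omit [DecidableEq ι] in
lemma q_nd (h : IsNondegenerateOn (pol Q) W) : (qForm hQ).NDOn W := ndOn_of (qForm_B hQ) h

lemma q_perp : (qForm hQ).perp W = (SF.of_quad hQ).perp W := by
  ext v
  rw [SF.mem_perp, Form.mem_perp']
  rfl

omit [DecidableEq ι] in
lemma plus_iff {m : ℕ} (h : finrank F W = 2 * m) :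
    IsPlusTypeOn Q W ↔ ((qForm hQ).restrict W).HasTS m := by
  rw [Form.hasTS_restrict_iff]
  exact _root_.exists_congr fun U => and_congr_right fun _ => and_congr (q_ts hQ).symm (by omega)

omit [DecidableEq ι] in
lemma plus_top_iff {m : ℕ} (h : Fintype.card ι = 2 * m) :
    IsPlusTypeOn Q ⊤ ↔ (qForm hQ).HasTS m :=
  _root_.exists_congr fun U => by
    simp only [le_top, true_and, q_ts, finrank_top, finrank_fintype_fun_eq_card]
    exact and_congr_right fun _ => by omega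

include hQ

lemma plus_sup (hd : Disjoint W W') (ho : AreOrthogonalFor (pol Q) W W') (h : IsPlusTypeOn Q W)
    (h' : IsPlusTypeOn Q W') : IsPlusTypeOn Q (W ⊔ W') := by
  obtain ⟨U, h1, h2, h3⟩ := h
  obtain ⟨U', h4, h5, h6⟩ := h'
  refine ⟨U ⊔ U', sup_le_sup h1 h4, (q_ts hQ).1 (((q_ts hQ).2 h2).sup ((q_ts hQ).2 h5)
    fun v hv u hu => ho u (h1 hu) v (h4 hv)), ?_⟩
  have h7 := Submodule.finrank_sup_add_finrank_inf_eq U U'
  have h8 := Submodule.finrank_sup_add_finrank_inf_eq W W'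
  rw [(hd.mono h1 h4).eq_bot, finrank_bot] at h7
  rw [hd.eq_bot, finrank_bot] at h8
  omega

lemma plus_perp (h : IsPlusTypeOn Q ⊤) (hW : IsNondegenerateOn (pol Q) W) (h' : IsPlusTypeOn Q W) :
    IsPlusTypeOn Q ((SF.of_quad hQ).perp W) := by
  obtain ⟨U, -, h2, h3⟩ := h
  obtain ⟨U', h4, h5, h6⟩ := h'
  have hf := qForm_ND hQ
  have h7 := (SF.of_quad hQ).finrank_perp hW
  rw [finrank_top, finrank_fintype_fun_eq_card] at h3
  obtain ⟨g, hg, h8⟩ := Form.TS.exists_map_le hf ((q_ts hQ).2 h5) ((q_ts hQ).2 h2) (by omega)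
  set X := U.map ((g⁻¹ : _ ≃ₗ[F] _) : (ι → F) →ₗ[F] (ι → F))
  have h9 : (qForm hQ).TS X := ((q_ts hQ).2 h2).map (inv_mem hg)
  have h10 : U' ≤ X := fun v hv => ⟨g v, h8 ⟨v, hv, rfl⟩, g.symm_apply_apply v⟩
  have h11 : finrank F X = finrank F U := LinearEquiv.finrank_map_eq _ _
  have h12 : U' ⊔ (qForm hQ).perp W = (qForm hQ).perp U' := by
    refine Submodule.eq_of_le_of_finrank_eq (sup_le ((q_ts hQ).2 h5).le_perp (Form.perp_anti _ h4)) ?_
    have h13 := Submodule.finrank_sup_add_finrank_inf_eq U' ((qForm hQ).perp W)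
    rw [(((Form.NDOn_iff_disjoint _).1 (q_nd hQ hW)).mono_left h4).eq_bot, finrank_bot] at h13
    have := hf.finrank_perp U'
    rw [← q_perp hQ] at h7
    simp only [finrank_fintype_fun_eq_card] at this
    omega
  have h13 := Submodule.finrank_sup_add_finrank_inf_eq U' ((qForm hQ).perp W ⊓ X)
  rw [← sup_inf_assoc_of_le _ h10, h12, inf_eq_right.2 (h9.le_perp.trans (Form.perp_anti _ h10)),
    (((Form.NDOn_iff_disjoint _).1 (q_nd hQ hW)).mono h4 inf_le_left).eq_bot, finrank_bot, q_perp] at h13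
  exact ⟨_, inf_le_left (b := X), fun v hv => h9.1 v hv.2, by omega⟩

variable [Fintype F]

lemma plus_pair (hW : IsNondegenerateOn (pol Q) W) (he : Even (finrank F W))
    (ho : AreOrthogonalFor (pol Q) W W') (h : AreIsometricFor Q W W') : IsPlusTypeOn Q (W ⊔ W') := by
  obtain ⟨e, he⟩ := exists_isIso_scale ((qForm hQ).restrict_ND.2 (q_nd hQ hW)) he (c := -1) (by simp)
  obtain ⟨ψ, hψ⟩ := h
  let φ : W →ₗ[F] (ι → F) := W.subtype + W'.subtype ∘ₗ (ψ : W →ₗ[F] W') ∘ₗ (e : W →ₗ[F] W)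
  have hd : Disjoint W W' := (((qForm hQ).NDOn_iff_disjoint).1 (q_nd hQ hW)).mono_right
    (show W' ≤ (qForm hQ).perp W from fun v hv u hu => ho u hu v hv)
  refine ⟨LinearMap.range φ, ?_, ?_, ?_⟩
  · rintro _ ⟨x, rfl⟩
    exact Submodule.add_mem_sup x.2 (ψ (e x)).2
  · rintro _ ⟨x, rfl⟩
    have : Q (e x) = -1 * Q x := he.2 x
    change Q (x + ψ (e x)) = 0
    rw [quad_add Q, hψ, this, ho _ x.2 _ (ψ (e x)).2]; ring
  · have h8 := Submodule.finrank_sup_add_finrank_inf_eq W W'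
    rw [hd.eq_bot, finrank_bot, ← ψ.finrank_eq] at h8
    rw [LinearMap.finrank_range_of_inj ((injective_iff_map_eq_zero _).2 fun x hx => Subtype.ext
      (Submodule.disjoint_def.1 hd _ x.2 ?_))]
    · omega
    · rw [eq_neg_of_add_eq_zero_left (show (x : ι → F) + ψ (e x) = 0 from hx)]
      exact neg_mem (ψ (e x)).2

omit hQ in
lemma even_exists_isIso {V V' : Type*} [AddCommGroup V] [Module F V] [FiniteDimensional F V]
    [AddCommGroup V'] [Module F V'] [FiniteDimensional F V'] {f : Form (quadKind F) V}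
    {f' : Form (quadKind F) V'} (hf : f.ND) (hf' : f'.ND) {m : ℕ} (h : finrank F V = 2 * m)
    (h' : finrank F V' = 2 * m) (ht : f.HasTS m ↔ f'.HasTS m) : ∃ e : V ≃ₗ[F] V', f.IsIso f' e := by
  by_cases h1 : f.HasTS m
  · exact plus_exists_isIso m _ _ f f' hf hf' h h' h1 (ht.1 h1)
  rcases m with _ | m
  · exact (h1 f.hasTS_zero).elim
  · exact minus_exists_isIso m _ _ f f' hf hf' h h' h1 (mt ht.2 h1)

lemma isometric_of_type (hW : IsNondegenerateOn (pol Q) W) (hW' : IsNondegenerateOn (pol Q) W')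
    {m : ℕ} (h : finrank F W = 2 * m) (h' : finrank F W' = 2 * m)
    (ht : IsPlusTypeOn Q W ↔ IsPlusTypeOn Q W') : AreIsometricFor Q W W' := by
  obtain ⟨e, he⟩ := even_exists_isIso ((qForm hQ).restrict_ND.2 (q_nd hQ hW))
    ((qForm hQ).restrict_ND.2 (q_nd hQ hW')) h h' (by rwa [← plus_iff hQ h, ← plus_iff hQ h'])
  exact ⟨e, he.2⟩

lemma exists_model (hW : IsNondegenerateOn (pol Q) W) {Q₀ : (κ → F) → F}
    (h₀ : IsNondegenerateQuadraticForm Q₀) {m : ℕ} (h : finrank F W = 2 * m)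
    (h' : Fintype.card κ = 2 * m) (ht : IsPlusTypeOn Q₀ ⊤ ↔ IsPlusTypeOn Q W) :
    ∃ φ : (κ → F) ≃ₗ[F] W, ∀ x, Q (φ x) = Q₀ x := by
  obtain ⟨e, he⟩ := even_exists_isIso (qForm_ND h₀) ((qForm hQ).restrict_ND.2 (q_nd hQ hW))
    (by simpa using h') h (by rwa [← plus_iff hQ h, ← plus_top_iff h₀ h'])
  exact ⟨e, he.2⟩

omit hQ [Fintype F] [DecidableEq ι] in
lemma plus_of_isometric (h : AreIsometricFor Q W W') (h' : IsPlusTypeOn Q W) : IsPlusTypeOn Q W' := by
  obtain ⟨e, he⟩ := h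
  obtain ⟨U, h1, h2, h3⟩ := h'
  refine ⟨((U.comap W.subtype).map e.toLinearMap).map W'.subtype, Submodule.map_subtype_le _ _, ?_, ?_⟩
  · rintro _ ⟨_, ⟨x, hx, rfl⟩, rfl⟩
    exact (he x).trans (h2 _ hx)
  · rw [Submodule.finrank_map_subtype_eq, LinearEquiv.finrank_map_eq,
      (Submodule.comapSubtypeEquivOfLe h1).finrank_eq, h3, e.finrank_eq]

variable {t m : ℕ} {D : Fin t → Submodule F (ι → F)}

lemma plus_biSup (hD : IsOrthogonalMDecomposition Q m D) (he : Even m) (s : Finset (Fin t))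
    (h : Even s.card ∨ ∀ i, IsPlusTypeOn Q (D i)) : IsPlusTypeOn Q (⨆ i ∈ s, D i) := by
  have hu : ∀ s s' : Finset (Fin t), Disjoint s s' → IsPlusTypeOn Q (⨆ i ∈ s, D i) →
      IsPlusTypeOn Q (⨆ i ∈ s', D i) → IsPlusTypeOn Q (⨆ i ∈ s ∪ s', D i) := fun s s' hd h h' => by
    rw [Finset.iSup_union]
    have h1 := hD.decomp.decomp.indep.disjoint_biSup_biSup (Finset.disjoint_coe.2 hd)
    simp only [Finset.mem_coe] at h1
    refine plus_sup hQ h1 (fun u hu v hv => ?_) h h'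
    have : (⨆ i ∈ s', D i) ≤ (qForm hQ).perp (⨆ i ∈ s, D i) := iSup₂_le fun j hj =>
      (qForm hQ).le_perp_comm.1 (iSup₂_le fun i hi =>
        show D i ≤ (qForm hQ).perp (D j) from fun u hu v hv => hD.decomp.orthogonal j i
          (by rintro rfl; exact Finset.disjoint_left.1 hd hi hj) v hv u hu)
    exact this hv u hu
  induction s using Finset.strongInduction with
  | H s ih =>
  rcases s.eq_empty_or_nonempty with rfl | ⟨i, hi⟩
  · rw [show (⨆ i ∈ (∅ : Finset (Fin t)), D i) = ⊥ by simp]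
    exact ⟨⊥, bot_le, fun v hv => by rw [show v = 0 from hv, q_zero hQ], by simp⟩
  rcases h with h | h
  · have h1 := Finset.card_erase_of_mem hi
    have h2 := Finset.card_pos.2 ⟨i, hi⟩
    obtain ⟨j, hj⟩ := Finset.card_pos.1 (by rw [Nat.even_iff] at h; omega : 0 < (s.erase i).card)
    have h3 := Finset.card_erase_of_mem hj
    have h4 := Finset.ne_of_mem_erase hj
    have := hu {i, j} ((s.erase i).erase j) (by simp) (by
      rw [Finset.iSup_insert, Finset.iSup_singleton]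
      exact plus_pair hQ (hD.decomp.nondegenerate i) (hD.decomp.decomp.finrank_eq i ▸ he)
        (hD.decomp.orthogonal i j h4.symm) (hD.isometric i j))
      (ih _ ((Finset.erase_subset _ _).trans_ssubset (Finset.erase_ssubset hi)) (Or.inl (by
        rw [Nat.even_iff] at h ⊢; omega)))
    rwa [Finset.insert_union, Finset.singleton_union, Finset.insert_erase hj, Finset.insert_erase hi]
      at this
  · have := hu {i} (s.erase i) (by simp) (by rw [Finset.iSup_singleton]; exact h i)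
      (ih _ (Finset.erase_ssubset hi) (Or.inr h))
    rwa [Finset.singleton_union, Finset.insert_erase hi] at this

lemma dec_plus_iff (hD : IsOrthogonalMDecomposition Q m D) (he : Even m) :
    IsPlusTypeOn Q ⊤ ↔ Even t ∨ ∀ i, IsPlusTypeOn Q (D i) := by
  refine ⟨fun h => or_iff_not_imp_left.2 fun ht i => ?_, fun h => ?_⟩
  · have hf := SF.of_quad hQ
    have h1 := plus_biSup hQ hD he (Finset.univ.erase i) (Or.inl (by
      have := i.2
      rw [Nat.even_iff] at ht ⊢; simp; omega))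
    simp only [Finset.mem_erase, Finset.mem_univ, and_true] at h1
    have h2 := dec_rest hD.decomp.decomp i
    have h3 := hf.finrank_perp (hD.decomp.nondegenerate i)
    rw [Submodule.eq_of_le_of_finrank_eq (hf.orth_rest hD.decomp i) (by
      rw [hD.decomp.decomp.finrank_eq] at h3; omega)] at h1
    have h4 := plus_perp hQ h (hf.nd_perp (hD.decomp.nondegenerate i)) h1
    rwa [← q_perp hQ, ← q_perp hQ, (qForm_ND hQ).perp_perp] at h4
  · simpa [hD.decomp.decomp.iSup_eq_top] using plus_biSup hQ hD he Finset.univ (by simpa using h)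

lemma plus_iff_disc (h2 : (2 : F) ≠ 0) {k : ℕ} (hn : Fintype.card ι = 2 * k) :
    IsPlusTypeOn Q ⊤ ↔ (qForm hQ).disc = chi (-1 : F) ^ k := by
  rw [plus_top_iff hQ hn, hasTS_iff_disc h2 (qForm_ND hQ) (by simpa)]

lemma plus_iff_of_disc (h2 : (2 : F) ≠ 0) {k : ℕ} (hn : Fintype.card ι = 2 * k)
    (h : (qForm hQ).disc = 1) : IsPlusTypeOn Q ⊤ ↔ Fintype.card F ^ k % 4 = 1 := by
  rw [plus_iff_disc hQ h2 hn, h, eq_comm, chi_neg_one_pow_eq_one_iff h2, Nat.card_eq_fintype_card]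

omit [Fintype F] in
lemma disc_pb {e : ι ≃ μ} {P : GL ι F} {G : Matrix μ μ F} (h : pb (tv e P) (pol Q) = gf σ₀ G) :
    (qForm hQ).disc = chi G.det := by
  rw [disc_eq _ ((Pi.basisFun F μ).map (tv e P))]
  congr 2
  ext a b
  rw [← gf_single σ₀ G, ← h, Form.gram_app]
  simp [pb, qForm_B]

lemma dec_disc (hD : IsOrthogonalMDecomposition Q m D) (ht : Even t) : (qForm hQ).disc = 1 := by
  have := hD.decomp.decomp.two_le
  let φ := (Module.finBasisOfFinrankEq F _ (hD.decomp.decomp.finrank_eq ⟨0, by omega⟩)).equivFun.symm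
  have h1 := (SF.of_quad hQ).restr (hD.decomp.nondegenerate _) φ
  obtain ⟨e, P, -, h2⟩ := q_adapt hQ hD φ (Q₀ := fun x => Q (φ x)) fun _ => rfl
  rw [disc_pb hQ (pb_of_q (Q₀ := fun x => Q (φ x)) h2 fun x y =>
    Eq.trans (by simp [QuadraticMap.polar]) (h1.eq_gf x y)), det_bm, chi_eq_one]
  simpa using ht.isSquare_pow _

lemma half_disc (h2 : (2 : F) ≠ 0) (hW : IsNondegenerateOn (pol Q) W)
    (hd : 2 * finrank F W = Fintype.card ι) (h : ¬ AreIsometricFor Q W ((SF.of_quad hQ).perp W)) :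
    (qForm hQ).disc = -1 := by
  have h3 := (SF.of_quad hQ).finrank_perp hW
  refine (Int.units_eq_one_or _).resolve_left fun h4 => h ?_
  rw [(q_nd hQ hW).disc_mul (qForm_ND hQ)] at h4
  obtain ⟨e, he⟩ := odd_exists_isIso h2 _ _ _ _ _ ((qForm hQ).restrict_ND.2 (q_nd hQ hW))
    ((qForm hQ).restrict_ND.2 ((q_nd hQ hW).perp (qForm_ND hQ))) rfl (by rw [q_perp]; omega)
    (by rw [eq_inv_of_mul_eq_one_left h4, Int.units_inv_eq_self])
  rw [← q_perp hQ]
  exact ⟨e, he.2⟩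

end Types

lemma mem_stab_iff {W : Submodule F (ι → F)} {g : GL ι F} :
    g ∈ subspaceStabilizer W ↔ W.map (toLin' (g : Matrix ι ι F)) = W := by
  refine ⟨fun h => map_eq_of_le (inv_stab W g h) rfl, fun h => mem_subspaceStabilizer.2 fun v =>
    ⟨fun hv => h.le ⟨v, hv, rfl⟩, fun hv => ?_⟩⟩
  obtain ⟨w, hw, h1⟩ := h.ge hv
  rwa [← gl_mulVec_cancel g v, ← show g.1 *ᵥ w = _ from h1, gl_mulVec_cancel]

section Small
variable [Fintype F] (hQ : IsNondegenerateQuadraticForm Q) {W : Submodule F (ι → F)}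
include hQ

lemma omega_parity (h5 : 5 ≤ Fintype.card ι) {m : ℕ} (hn : Fintype.card ι = 2 * m)
    (hW : IsTotallySingularQuad Q W) (hd : finrank F W = m) {g : GL ι F} (hg : g ∈ omegaGL Q) :
    Even (m - finrank F (W ⊓ W.map (toLin' (g : Matrix ι ι F)) : Submodule F (ι → F))) := by
  have hf := qForm_ND hQ
  have hgen := hgen_of hf (Or.inr (by simp; omega))
  obtain ⟨g, h1, rfl⟩ := (omegaGL_eq (qForm hQ)).le hg
  rw [Form.toGL_toLin]
  exact (dick_eq_one_iff_parity hf hgen (by simpa) ((q_ts hQ).2 hW) hd g).1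
    ((mem_commutator_iff hf hgen).1 h1).1

lemma omega_fix (h5 : 5 ≤ Fintype.card ι) {m : ℕ} (hn : Fintype.card ι = 2 * m)
    (hW : IsTotallySingularQuad Q W) (hd : finrank F W = m) {g : GL ι F} (hg : g ∈ omegaGL Q)
    (h : Even (m - finrank F (W ⊓ W.map (toLin' (g : Matrix ι ι F)) : Submodule F (ι → F))) →
      m ≤ finrank F (W ⊓ W.map (toLin' (g : Matrix ι ι F)) : Submodule F (ι → F))) :
    g ∈ subspaceStabilizer W := by
  have h1 := Submodule.eq_of_le_of_finrank_le inf_le_right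
    ((finrank_map_gl g W).trans_le (hd.trans_le (h (omega_parity hQ h5 hn hW hd hg))))
  exact mem_stab_iff.2 (map_eq_of_le (fun v hv => (h1.ge ⟨v, hv, rfl⟩).1) rfl)

lemma ts_up (h5 : 5 ≤ Fintype.card ι) (hp : IsPlusTypeOn Q ⊤) (hW : IsTotallySingularQuad Q W)
    (hd : 2 * (finrank F W + 1) = Fintype.card ι) : ∃ U, W ≤ U ∧ IsTotallySingularQuad Q U ∧
      finrank F U = finrank F W + 1 ∧ subspaceStabilizer W ⊓ omegaGL Q ≤ subspaceStabilizer U := by
  obtain ⟨U, h2, h3⟩ := (plus_top_iff hQ hd.symm).1 hp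
  obtain ⟨g, hg, h8⟩ := Form.TS.exists_map_le (qForm_ND hQ) ((q_ts hQ).2 hW) h2 (by omega)
  set X := U.map ((g⁻¹ : _ ≃ₗ[F] _) : (ι → F) →ₗ[F] (ι → F))
  have h9 : IsTotallySingularQuad Q X := (q_ts hQ).1 (h2.map (inv_mem hg))
  have h10 : W ≤ X := fun v hv => ⟨g v, h8 ⟨v, hv, rfl⟩, g.symm_apply_apply v⟩
  have h11 : finrank F X = finrank F W + 1 := (LinearEquiv.finrank_map_eq _ _).trans h3
  refine ⟨X, h10, h9, h11, fun x hx => omega_fix hQ h5 hd.symm h9 h11 hx.2 fun h => ?_⟩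
  have := Submodule.finrank_mono (le_inf h10 ((mem_stab_iff.1 hx.1).ge.trans
    (Submodule.map_mono h10)))
  rw [Nat.even_iff] at h
  omega

lemma pair_odd (h5 : 5 ≤ Fintype.card ι) {m : ℕ} (hm : Odd m) {D : Fin 2 → Submodule F (ι → F)}
    (hD : IsMDecomposition m D) (hT : ∀ i, IsTotallySingularQuad Q (D i)) :
    decompositionStabilizer D ⊓ omegaGL Q ≤ subspaceStabilizer (D 0) := fun g hg => by
  rcases perm_two_iff.1 hg.1 with ⟨h, -⟩ | ⟨h, -⟩
  · exact mem_stab_iff.2 h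
  · have := omega_parity hQ h5 (dec_card hD).symm (hT 0) (hD.finrank_eq 0) hg.2
    rw [h, (isCompl_of_dec hD).inf_eq_bot, finrank_bot] at this
    exact absurd this (Nat.not_even_iff_odd.2 hm)

lemma plane_vec (hq : Fintype.card F ≤ 3) (hW : IsNondegenerateOn (pol Q) W) (hd : finrank F W = 2)
    (hp : IsPlusTypeOn Q W) : ∃ v ∈ W, Q v = 1 ∧ ∀ x ∈ W, Q x = 1 → x ∈ F ∙ v := by
  obtain ⟨U, h1, h2, h3⟩ := hp
  obtain ⟨u, hu, h0⟩ := exists_ne_of_pos (X := U) (by omega)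
  obtain ⟨w, hw, h⟩ := (q_nd hQ hW).exists_hyp (h1 hu) h0 (h2 u hu)
  have h4 : ∀ a b : F, Q (a • u + b • w) = a * b := fun a b => by
    have := quad_Q_comb (qForm hQ) a b u w
    rwa [h.Qu, h.Qw, h.Buw, mul_zero, mul_zero, mul_one, zero_add, zero_add] at this
  refine ⟨u + w, add_mem (h1 hu) hw, by simpa using h4 1 1, fun x hx h5 => ?_⟩
  rw [← Submodule.eq_of_le_of_finrank_eq (Submodule.span_le.2 (Set.insert_subset (h1 hu)
    (Set.singleton_subset_iff.2 hw))) (h.finrank_span.trans hd.symm)] at hx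
  obtain ⟨a, b, rfl⟩ := Submodule.mem_span_pair.1 hx
  rw [h4] at h5
  have h6 : a * a = 1 := by
    have := Fintype.one_lt_card (α := F)
    have ha := left_ne_zero_of_mul_eq_one h5
    rcases (by omega : Fintype.card F ≤ 2 ∨ Fintype.card F = 3) with h | h
    · rw [eq_one_of_two h ha, one_mul]
    · exact mul_self_three h ha
  obtain rfl : a = b := by linear_combination -a * h5 + b * h6
  exact Submodule.mem_span_singleton.2 ⟨a, smul_add _ _ _⟩

lemma plane_inv (hq : Fintype.card F ≤ 3) (hW : IsNondegenerateOn (pol Q) W) (hd : finrank F W = 2)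
    (hp : IsPlusTypeOn Q W) : ∃ v, Q v = 1 ∧ ∀ H ≤ isometryGroup F Q, Inv H W → Inv H (F ∙ v) := by
  obtain ⟨v, h1, h2, h3⟩ := plane_vec hQ hq hW hd hp
  refine ⟨v, h2, fun H hH h g hg x hx => ?_⟩
  obtain ⟨c, rfl⟩ := Submodule.mem_span_singleton.1 hx
  rw [mulVec_smul]
  exact Submodule.smul_mem _ _ (h3 _ (h g hg v h1) ((mem_isometryGroup.1 (hH hg) v).trans h2))

variable {t : ℕ} {D : Fin t → Submodule F (ι → F)}

lemma planes_red (hq : Fintype.card F ≤ 3) (hD : IsOrthogonalMDecomposition Q 2 D)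
    (hp : ∀ i, IsPlusTypeOn Q (D i)) : ∃ U, U ≠ ⊥ ∧ U ≠ ⊤ ∧
      Inv (decompositionStabilizer D ⊓ isometryGroup F Q) U := by
  choose v h1 h2 h3 using fun i =>
    plane_vec hQ hq (hD.decomp.nondegenerate i) (hD.decomp.decomp.finrank_eq i) (hp i)
  have h4 := hD.decomp.decomp.two_le
  refine ⟨Submodule.span F (Set.range v), fun h => ?_, fun h => ?_, fun g hg x hx => ?_⟩
  · have := h2 ⟨0, by omega⟩
    rw [show v _ = 0 from h.le (Submodule.subset_span ⟨_, rfl⟩), q_zero hQ] at this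
    exact zero_ne_one this
  · have h5 := finrank_range_le_card (R := F) v
    have h6 := dec_card hD.decomp.decomp
    rw [Set.finrank, h] at h5
    simp at h5; omega
  · refine (Submodule.span_le (p := (Submodule.span F (Set.range v)).comap (toLin' g.1))).2 ?_ hx
    rintro _ ⟨i, rfl⟩
    obtain ⟨π, hπ⟩ := hg.1
    exact Submodule.span_mono (Set.singleton_subset_iff.2 (Set.mem_range_self _)) (h3 (π i) _
      ((hπ i).le ⟨_, h1 i, rfl⟩) ((mem_isometryGroup.1 hg.2 _).trans (h2 i)))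

omit hQ [Fintype F] in
lemma isQuad_gf {M : Matrix κ κ F} (h : (M + Mᵀ).det ≠ 0) :
    IsNondegenerateQuadraticForm fun v => gf σ₀ M v v :=
  (SF.of_gram (σ := σ₀) (ε := 1) (G := M + Mᵀ) (fun _ => rfl) (by simp)
    ((isUnit_iff_isUnit_det _).2 h.isUnit) (by simp [add_comm])).isQuad
    (fun c v => by simp [gf, mulVec_smul]; ring) fun u v => by
      simp only [QuadraticMap.polar, gf_add_add]; ring

omit hQ [Fintype F] in
lemma isQuad_dot (h2 : (2 : F) ≠ 0) : IsNondegenerateQuadraticForm fun v : κ → F => 1 * (v ⬝ᵥ v) := by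
  convert isQuad_gf (M := (1 : Matrix κ κ F)) (by
    rw [transpose_one, ← two_smul F, det_smul]; simp [h2]) using 2
  simp [gf]

omit hQ [Fintype F] in
lemma isQuad_A (h2 : (2 : F) = 0) :
    IsNondegenerateQuadraticForm fun v : Fin 2 → F => v 0 ^ 2 + v 0 * v 1 + v 1 ^ 2 := by
  convert isQuad_gf (M := !![(1 : F), 1; 0, 1]) (by
    rw [det_fin_two]; simp; intro h; exact one_ne_zero (by linear_combination -h + 2 * h2 : (1 : F) = 0))
    using 2
  simp [gf, dotProduct, mulVec]; ring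

omit hQ [Fintype F] [DecidableEq κ] in
lemma plus_two {Q₀ : (κ → F) → F} (h₀ : IsNondegenerateQuadraticForm Q₀) (h : Fintype.card κ = 2) :
    IsPlusTypeOn Q₀ ⊤ ↔ ∃ u, u ≠ 0 ∧ Q₀ u = 0 :=
  (plus_top_iff h₀ (m := 1) h).trans Form.hasTS_one_iff

lemma planes_four (hq : Fintype.card F = 4) (hD : IsOrthogonalMDecomposition Q 2 D)
    (hp : ∀ i, IsPlusTypeOn Q (D i)) : OSub Q (decompositionStabilizer D ⊓ isometryGroup F Q) := by
  have h2 := two_eq_zero (F := F) (Or.inr hq)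
  have h3 : ∀ {a : F}, a ≠ 0 → a ^ 3 = 1 := fun ha => pow_card_sub ha hq
  have h4 := hD.decomp.decomp.two_le
  obtain ⟨φ, hφ⟩ := exists_model hQ (hD.decomp.nondegenerate ⟨0, by omega⟩) (isQuad_A h2) (m := 1)
    (hD.decomp.decomp.finrank_eq _) (by simp) (iff_of_true ((plus_two (isQuad_A h2) (by simp)).2 (by
      obtain ⟨c, h0, h1⟩ := exists_ne_zero_one (F := F) (by omega)
      refine ⟨![c, 1], by simp, mul_left_cancel₀ (sub_ne_zero.2 h1) ?_⟩
      simp only [cons_val_zero, cons_val_one]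
      linear_combination h3 h0)) (hp _))
  obtain ⟨e, P, h5, h6⟩ := q_adapt hQ hD φ hφ
  obtain ⟨k, r, -, hr, hk⟩ := exists_max_subfield (bot_ne_top (F := F) (by rw [hq]; decide))
  have h7 : ∀ x y : F, x ^ 2 + x * y + y ^ 2 = 1 → x ∈ k := fun x y h => by
    by_cases hx : x = 0
    · rw [hx]; exact zero_mem k
    have h8 : (x - 1) ^ 2 = 0 := by
      by_cases hy : y = 0
      · rw [hy] at h; linear_combination h + (1 - x) * h2
      · obtain rfl : x = y := by linear_combination h3 hx - h3 hy - (x - y) * h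
        linear_combination h + (1 - x - x ^ 2) * h2
    rw [sub_eq_zero.1 (pow_eq_zero_iff two_ne_zero |>.1 h8)]
    exact one_mem k
  obtain ⟨h8, h9⟩ := sub_of_blocks h5 (Q₀ := fun v : Fin 2 → F => v 0 ^ 2 + v 0 * v 1 + v 1 ^ 2) h6
    (by simp) (k := k) (ζ := 1) (fun x hx => by
      rw [one_mul]; exact add_mem (add_mem (pow_mem (hx 0) 2) (mul_mem (hx 0) (hx 1))) (pow_mem (hx 1) 2))
    fun a ha l l' => by
      have h8 : a 0 l' ^ 2 + a 0 l' * a 1 l' + a 1 l' ^ 2 = 1 := by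
        have := ha (Pi.single l' 1)
        fin_cases l' <;> simpa using this
      fin_cases l
      · exact h7 _ _ h8
      · exact h7 (a 1 l') (a 0 l') (by linear_combination h8)
  exact ⟨k, r, P, 1, hr, by rw [← hk, Nat.card_eq_fintype_card], one_ne_zero, h8, h9⟩

lemma planes_refine {n : ℕ} (hn : Fintype.card ι = n) (hD : IsOrthogonalMDecomposition Q 2 D)
    (h : (Fintype.card F = 3 ∧ ∀ i, ¬ IsPlusTypeOn Q (D i)) ∨
      (Fintype.card F = 5 ∧ ∀ i, IsPlusTypeOn Q (D i))) :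
    ∃ D' : Fin n → Submodule F (ι → F), IsOrthogonalMDecomposition Q 1 D' ∧
      decompositionStabilizer D ⊓ isometryGroup F Q ≤ decompositionStabilizer D' := by
  have h2 : (2 : F) ≠ 0 := odd_iff.1 (by rcases h with ⟨h, -⟩ | ⟨h, -⟩ <;> rw [h] <;> decide)
  have h4 := hD.decomp.decomp.two_le
  have h5 : ((Fintype.card F : ℕ) : F) = 0 := FiniteField.cast_card_eq_zero F
  obtain ⟨φ, hφ⟩ := exists_model hQ (hD.decomp.nondegenerate ⟨0, by omega⟩)
    (isQuad_dot (κ := Fin 2) h2) (m := 1) (hD.decomp.decomp.finrank_eq _) (by simp) (by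
      rw [plus_two (isQuad_dot h2) (by simp)]
      rcases h with ⟨h, hp⟩ | ⟨h, hp⟩
      · refine iff_of_false ?_ (hp _)
        rintro ⟨u, h0, hu⟩
        simp only [dotProduct, Fin.sum_univ_two, one_mul] at hu
        by_cases h6 : u 0 = 0 <;> by_cases h7 : u 1 = 0
        · exact h0 (by ext i; fin_cases i <;> assumption)
        · exact h7 (by simpa [h6] using hu)
        · exact h6 (by simpa [h7] using hu)
        · exact h2 (by linear_combination hu - mul_self_three h h6 - mul_self_three h h7)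
      · refine iff_of_true ⟨![1, 2], by simp, ?_⟩ (hp _)
        rw [h] at h5
        simp [dotProduct]; linear_combination h5)
  refine q_refine hQ h2 hn hD φ one_ne_zero hφ fun y hy => ?_
  rcases h with ⟨h, -⟩ | ⟨h, -⟩
  · exact single_of_norm (fun a => mul_self_three h) (Or.inl (by simp)) hy
  by_cases h6 : y 0 = 0
  · exact ⟨1, y 1, by ext i; fin_cases i <;> simp [h6]⟩
  by_cases h7 : y 1 = 0
  · exact ⟨0, y 0, by ext i; fin_cases i <;> simp [h7]⟩
  have h8 := pow_card_sub h6 (q := 4) h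
  have h9 := pow_card_sub h7 (q := 4) h
  rw [h] at h5
  simp only [gf, one_mulVec, dotProduct, Fin.sum_univ_two, Function.comp_apply, RingHom.id_apply] at hy
  have h10 : 2 * y 0 ^ 2 = 1 := by
    linear_combination h8 - h9 + (1 - y 0 ^ 2 + y 1 ^ 2) * hy
  exact absurd (by linear_combination h5 - (2 * y 0 ^ 2 + 1) * h10 + 4 * h8 : (2 : F) = 0) h2

end Small

lemma nd_span (hQ : IsNondegenerateQuadraticForm Q) (h2 : (2 : F) ≠ 0) {v : ι → F} (hv : Q v ≠ 0) :
    IsNondegenerateOn (pol Q) (F ∙ v) := isNondegenerateOn_of (f := qForm hQ)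
  (Form.NDOn_singleton (by rw [qForm_B, polar_self hQ]; exact mul_ne_zero h2 hv))

lemma ts_ne_top (hQ : IsNondegenerateQuadraticForm Q) {W : Submodule F (ι → F)} (h0 : W ≠ ⊥)
    (h : IsTotallySingularQuad Q W) : W ≠ ⊤ := by
  rintro rfl
  obtain ⟨v, -, hv⟩ := Submodule.exists_mem_ne_zero_of_ne_bot h0
  exact hv ((SF.of_quad hQ).nd v fun x => ts_pol h x trivial v trivial)

lemma ne_top_of_lt {W : Submodule F (ι → F)} (h : finrank F W < Fintype.card ι) : W ≠ ⊤ := by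
  rintro rfl
  simp at h

lemma ne_bot_of_pos {W : Submodule F (ι → F)} (h : 0 < finrank F W) : W ≠ ⊥ := by
  rintro rfl
  simp at h

lemma pos_of_ne_bot {W : Submodule F (ι → F)} (h : W ≠ ⊥) : 0 < finrank F W :=
  finrank_pos_iff.2 (Submodule.nontrivial_iff_ne_bot.2 h)

variable [Fintype F]

/-- The maximal subgroups of odd-dimensional orthogonal groups. -/
theorem o_odd_table (hQ : IsNondegenerateQuadraticForm Q) (ho : Odd (Fintype.card F))
    (hn : Odd (Fintype.card ι)) (h7 : 7 ≤ Fintype.card ι)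
    (hk : ∀ (k : Subfield F) (u : ι → F), (∀ i, u i ∈ k) → Q u ∈ k) {H : Subgroup (GL ι F)}
    (hH : IsMaximalIn (omegaGL Q) H) :
    (∃ W, W ≠ ⊥ ∧ IsTotallySingularQuad Q W ∧ H = subspaceStabilizer W ⊓ omegaGL Q) ∨
    (∃ W : Submodule F (ι → F), W ≠ ⊥ ∧ Even (finrank F W) ∧ IsNondegenerateOn (pol Q) W ∧
      ¬ (Fintype.card F = 3 ∧ finrank F W = 2 ∧ IsPlusTypeOn Q W) ∧
      H = subspaceStabilizer W ⊓ omegaGL Q) ∨
    (∃ (t m : ℕ) (D : Fin t → Submodule F (ι → F)), (m = 1 → (Fintype.card F).Prime) ∧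
      (m = 3 → 5 ≤ Fintype.card F) ∧ IsOrthogonalMDecomposition Q m D ∧
      H = decompositionStabilizer D ⊓ omegaGL Q) ∨
    (∃ (r : ℕ) (K : Subalgebra F (Matrix ι ι F)), r.Prime ∧ Fintype.card ι ≠ r ∧
      r ∣ Fintype.card ι ∧ IsFieldSubalgebra r K ∧ IsSelfAdjointFor (pol Q) K ∧
      H = subalgebraNormalizer K ⊓ omegaGL Q) ∨
    (∃ d m : ℕ, 3 ≤ d ∧ d < m ∧ Fintype.card ι = d * m) ∨
    (∃ (F₀ : Subfield F) (r : ℕ) (P : GL ι F), r.Prime ∧ Fintype.card F = Nat.card F₀ ^ r ∧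
      IsQuadFormRationalStructure Q F₀ P ∧ H = subfieldSubgroup F₀ P ⊓ omegaGL Q) ∨
    (∃ (k t : ℕ) (e : ι ≃ (Fin t → Fin k)) (P : GL ι F) (f₁ : (Fin k → F) → (Fin k → F) → F),
      3 ≤ k ∧ 2 ≤ t ∧ k ^ t = Fintype.card ι ∧ (k = 3 → 5 ≤ Fintype.card F) ∧ IsSymmetricForm f₁ ∧
      IsTensorPowerFormStructure id (pol Q) f₁ e P ∧ H = tensorWreathSubgroup k t e P ⊓ omegaGL Q) ∨
    InOrthogonalResidualClass H := by
  haveI : Nonempty ι := Fintype.card_pos_iff.1 (by omega)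
  have hB := big_O hQ (by omega)
  have hf := SF.of_quad hQ
  have h2 := odd_iff.1 ho
  have hI := hH.1.le.trans (omega_le Q)
  have hn' := Nat.odd_iff.1 hn
  have hd : ∀ (t m : ℕ) (D : Fin t → Submodule F (ι → F)), IsMDecomposition m D →
      ¬ omegaGL Q ≤ decompositionStabilizer D := fun t m D hD => hB.not_dec hD (by
    have h1 := dec_card hD
    have h3 := hD.two_le
    have h4 : t ≠ 2 := by rintro rfl; omega
    have := Nat.mul_le_mul_right m (by omega : 3 ≤ t)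
    omega)
  rcases o_odd hQ h2 hn (by omega) hk hI with ⟨W, h1, h3, h⟩ | ⟨W, h1, h3, h4, h⟩ |
    ⟨t, m, D, h1, h3, h⟩ | ⟨r, K, h1, h3, h4, h5, h6, h⟩ | ⟨d, m, e, P, -, -, h1, h3, -⟩ |
    ⟨k, r, P, h1, h3, h4, h⟩ | ⟨k, t, e, P, f₁, h1, h3, h4, h5, h6, h⟩ | h
  · exact Or.inl ⟨W, h1, h3, eq_of_max hH h (hB.not_stab h1 (ts_ne_top hQ h1 h3))⟩
  · refine Or.inr (Or.inl ?_)
    wlog h5 : ¬ (Fintype.card F = 3 ∧ finrank F W = 2 ∧ IsPlusTypeOn Q W) generalizing W
    · obtain ⟨h5, h6, h8⟩ := not_not.1 h5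
      obtain ⟨v, h9, h10⟩ := plane_inv hQ h5.le h3 h6 h8
      have h11 : v ≠ 0 := by rintro rfl; simp [q_zero hQ] at h9
      have h12 := finrank_span_singleton (K := F) h11
      exact this (F ∙ v) (by simpa) (nd_span hQ h2 (by simp [h9])) (by omega) (h10 H hI h) (by omega)
    by_cases h6 : Even (finrank F W)
    · exact ⟨W, h1, h6, h3, h5, eq_of_max hH h.le_stab (hB.not_stab h1 (ne_top_of_lt (by omega)))⟩
    have h8 := hf.finrank_perp h3
    rw [Nat.even_iff] at h6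
    exact ⟨hf.perp W, ne_bot_of_pos (by omega), Nat.even_iff.2 (by omega), hf.nd_perp h3, by omega,
      eq_of_max hH (hf.inv_perp ((hI.trans (isometry_le Q)).trans (Iso_le_Sim _)) h).le_stab
        (hB.not_stab (ne_bot_of_pos (by omega)) (ne_top_of_lt (by omega)))⟩
  · iterate 2 right
    by_cases h4 : m = 3 ∧ Fintype.card F = 3
    · obtain ⟨rfl, h4⟩ := h4
      obtain ⟨D', h5, h6⟩ := three_refine hQ h4 rfl h3
      exact Or.inl ⟨_, 1, D', fun _ => h4 ▸ Nat.prime_three, by omega, h5,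
        eq_of_max hH ((le_inf h hI).trans h6) (hd _ _ _ h5.decomp.decomp)⟩
    · exact Or.inl ⟨t, m, D, h1, fun h5 => five_le ho fun h6 => h4 ⟨h5, h6⟩, h3,
        eq_of_max hH h (hd _ _ _ h3.decomp.decomp)⟩
  · iterate 3 right
    exact Or.inl ⟨r, K, h1, h3, h4, h5, h6, eq_of_max hH h (hB.not_field h1.two_le h5)⟩
  · iterate 4 right
    exact Or.inl ⟨d, m, h1, h3, by simpa using Fintype.card_congr e⟩
  · iterate 5 right
    exact Or.inl ⟨k, r, P, h1, h3, h4, eq_of_max hH h (hB.not_sub (by omega) h1 h3 P)⟩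
  · iterate 6 right
    refine Or.inl ⟨k, t, e, P, f₁, h1, h3, by simpa using (Fintype.card_congr e).symm,
      fun h8 => five_le ho fun h9 => h4 ⟨h9, h8⟩, h5, h6,
      eq_of_max hH h (hB.not_wreath' (by omega) h3 ?_ e P)⟩
    exact Nat.mul_le_mul (by omega : 2 ≤ k - 1) (Nat.mul_le_mul (by omega : 2 ≤ k - 1)
      (Nat.one_le_pow _ _ (by omega)))
  · iterate 7 right
    exact h

end H4.As
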